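import Cfsg.Agent.SP.Mon.NL.Pairs
import Cfsg.Agent.H816.M23.Main
import Cfsg.Agent.H740.OreM.Three
import Cfsg.Agent.H909.PwM.TwoA
import Cfsg.Agent.H909.PwM.Base
import Cfsg.Agent.H849.StabCo3
import Cfsg.Agent.NotCT.Orders

/-! # S5755, the Monster: the number of `2A`-involutions in a subset

`a_sq` : a set `Y` of `2A`-involutions with all products in `Z` satisfies `|Y| ≤ 1.6 · 10 ^ 9` or
`94 |Y| ^ 2 ≤ 100 (196560 b + P + 2208 |Z|)`, `b` the number of `2B`-involutions of `Z`, `P` the number of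
pairs with a product of order 3. -/

set_option autoImplicit false
set_option maxRecDepth 100000
set_option linter.style.haveILetI false

namespace Cfsg.Agent.SP.Mon.NL

open Cfsg Cfsg.Agent.MonsterX.InstData Cfsg.Agent.MonsterU Cfsg.Agent.MonsterU.Lam2
open Cfsg.Agent.H816.MSch Cfsg.Agent.H816.IMEig
open Cfsg.Agent.H816.M23.Tx Cfsg.Agent.H816.M23.Inst Cfsg.Agent.H816.M23.Abs Cfsg.Agent.H816.M23.Main
open Cfsg.Agent.BpSpor.MBigModel (MG zz pi chart cls)
open Cfsg.Agent.LThreeB.Row (TA)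
open Cfsg.Spor (Co1)
open Subgroup (centralizer zpowers mem_centralizer_singleton_iff)

/-- the projection `Q → Λ / 2 Λ` -/
noncomputable abbrev eta : MG → L2 := LThreeMB.KChart.eta MonsterX.KDone.lft

/-- the extraspecial group -/
noncomputable abbrev QQ : Subgroup MG := MonsterX.KDone.K.ι.range

/-- `|C(g) ∩ K|` for `K ≤ C(z)`: the kernel and the image in `Co1` -/
theorem card_le_ker_mul {K : Subgroup MG} (hK : K ≤ centralizer ({zz} : Set MG)) (L : Subgroup Co1)
    (hL : ∀ c : centralizer ({zz} : Set MG), (c : MG) ∈ K → pi c ∈ L) :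
    Nat.card K ≤ Nat.card (K ⊓ QQ : Subgroup MG) * Nat.card L := by
  have := BpSpor.MBigCo.finite_co1
  let f : K →* Co1 := pi.comp (Subgroup.inclusion hK)
  have h1 : Nat.card f.ker ≤ Nat.card (K ⊓ QQ : Subgroup MG) :=
    Nat.card_le_card_of_injective (fun x => (⟨x.1.1, x.1.2, (chart.pi_eq_one _).1 x.2⟩ :
      (K ⊓ QQ : Subgroup MG))) fun a b e =>
        Subtype.ext (Subtype.ext (congrArg (fun p : (K ⊓ QQ : Subgroup MG) => (p : MG)) e))
  have h2 : Nat.card f.range ≤ Nat.card L := Subgroup.card_le_of_le (by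
    rintro _ ⟨x, rfl⟩
    exact hL _ x.2)
  rw [← f.ker.card_mul_index, Subgroup.index_ker]
  exact Nat.mul_le_mul h1 h2

theorem card_stab_three {v : L2} (hv : IsType 3 v) : Nat.card (MulAction.stabilizer Co1 v) = 495766656000 := by
  obtain ⟨g, hg⟩ := IsType.trans (Or.inr (Or.inl rfl)) H849.StabCo3.isType_V hv
  rw [← hg, ← mk_smul, MulAction.stabilizer_smul_eq_stabilizer_map_conj,
    Subgroup.card_map_of_injective (MulAut.conj _).injective, ← Nat.card_congr H849.StabCo3.stabEquiv.toEquiv]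
  exact NotCT.Orders.co3 ⟨MulEquiv.refl _⟩

theorem isType_three {q : MG} (hq : q ∈ QQ) (h : q * q = zz) :
    IsType 3 (eta q) := by
  have h1 : qf (eta q) = 1 := (chart.sq_z hq).1 h
  rcases type_cases (eta q) with h2 | h2 | h2 | h2
  · rw [h2, qf_zero] at h1; exact absurd h1 (by decide)
  · rw [Ch.qf_of_type h2] at h1; exact absurd h1 (by decide)
  · exact h2
  · rw [Ch.qf_of_type h2] at h1; exact absurd h1 (by decide)

theorem cent_Q_four {q : MG} (hq : q ∈ QQ) (h : q * q = zz) :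
    Nat.card (centralizer ({q} : Set MG)) ≤ 2 ^ 25 * 495766656000 := by
  have hle : centralizer ({q} : Set MG) ≤ centralizer ({zz} : Set MG) := fun c hc => by
    have h1 : Commute c q := mem_centralizer_singleton_iff.1 hc
    rw [mem_centralizer_singleton_iff, ← h]
    exact (h1.mul_right h1).eq
  refine (card_le_ker_mul hle (MulAction.stabilizer Co1 (eta q)) fun c hc => ?_).trans ?_
  · rw [MulAction.mem_stabilizer_iff, ← chart.eta_conj c q hq, mem_centralizer_singleton_iff.1 hc,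
      mul_inv_cancel_right]
  · rw [card_stab_three (isType_three hq h), ← chart.card_Q]
    exact Nat.mul_le_mul_right _ (Subgroup.card_le_of_le inf_le_right)

/-- **Square roots of a `2B`-involution.** -/
theorem cent_sq_z {g k : MG} (hg : k * zz * k⁻¹ = g * g) :
    Nat.card (centralizer ({g} : Set MG)) ≤ 2 ^ 25 * 495766656000 := by
  rcases H909.PwM.Base.inQ_or_z (g := g) (v := g * g)
    (Subgroup.mul_mem _ (Subgroup.mem_zpowers g) (Subgroup.mem_zpowers g)) hg with ⟨l, hl⟩ | h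
  · rw [← H909.PwM.Base.card_cent_conj l g]
    refine cent_Q_four hl ((chart.large.sq _ hl).resolve_left fun h => ?_)
    have h1 : l * g * l⁻¹ * (l * g * l⁻¹) = (l * k) * zz * (l * k)⁻¹ := by
      calc l * g * l⁻¹ * (l * g * l⁻¹) = l * (g * g) * l⁻¹ := by group
        _ = _ := by rw [← hg]; group
    rw [h1, mul_inv_eq_one, mul_eq_left] at h
    exact BpSpor.MBigModel.zz_ne h
  · exact h.trans (by norm_num)

theorem order_two {G : Type*} [Group G] {g : G} (h : g ^ 2 = 1) (h1 : g ≠ 1) : orderOf g = 2 := by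
  have : Fact (Nat.Prime 2) := ⟨Nat.prime_two⟩
  exact orderOf_eq_prime h h1

theorem N_five {x y : XT} (h : c x y = 5) : N tX x y ≤ 2208 := by
  have h4 := ax.five_four h
  have h2 := ax.five_ne h
  have hw : ∀ w, (tX x * tX y) ^ 2 ≠ tX w := by
    rw [ax.sq_eq]; exact (ax.two _ _ (ax.five x y h)).2
  have hC : Nat.card (centralizer ({tX x * tX y} : Set MG)) ≤ 2 ^ 25 * 495766656000 := by
    rcases cls (order_two (g := (tX x * tX y) ^ 2) (by rw [← pow_mul]; exact h4) h2) with ⟨k, hk⟩ | hk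
    · exact cent_sq_z (hk.trans (pow_two _))
    · obtain ⟨w, e⟩ := (ta_iff _).1 hk
      exact absurd e (hw w)
  refine bound h (fun s s' e => ?_) rfl ((Nat.mul_le_mul_right _ hC).trans (by
    show 2 ^ 25 * 495766656000 * (97239461142009186000 * 1102935324621312000) ≤
      2208 * 808017424794512875886459904961710757005754368000000000
    norm_num))
  rw [← e] at h4 h2 hw
  rcases nine (c s s') with k | k | k | k | k | k | k | k | k
  · exact absurd (by rw [ax.zero_one k, one_pow]) h2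
  · exact absurd (ax.one_sq k) h2
  · exact absurd (ax.two_sq k) h2
  · exact absurd (by rw [pow_one' h4 (ax.three _ _ k) rfl, one_pow]) h2
  · exact absurd (by rw [pow_one' h4 (ax.four _ _ k) rfl, one_pow]) h2
  · exact k
  · obtain ⟨w, e'⟩ := ax.six_w k
    exact absurd e' (hw w)
  · exact absurd (by rw [pow_one' h4 (ax.seven _ _ k) rfl, one_pow]) h2
  · exact absurd (pow_gcd h4 (ax.eight_six k)) h2

theorem N_six {x y : XT} (h : c x y = 6) : N tX x y ≤ 4 := by
  have h4 := ax.six_four h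
  have h2 := ax.six_ne h
  obtain ⟨w, hw⟩ := ax.six_w h
  have hC : Nat.card (centralizer ({tX x * tX y} : Set MG)) ≤ 26489012826931200 :=
    H909.PwM.TwoA.card_cent_le ((pow_two _).symm.trans hw) ((ta_iff _).2 ⟨w, rfl⟩)
  refine bound h (fun s s' e => ?_) rfl ((Nat.mul_le_mul_right _ hC).trans (by
    show 26489012826931200 * (97239461142009186000 * 1254793905192960000) ≤
      4 * 808017424794512875886459904961710757005754368000000000
    norm_num))
  rw [← e] at h4 h2 hw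
  rcases nine (c s s') with k | k | k | k | k | k | k | k | k
  · exact absurd (by rw [ax.zero_one k, one_pow]) h2
  · exact absurd (ax.one_sq k) h2
  · exact absurd (ax.two_sq k) h2
  · exact absurd (by rw [pow_one' h4 (ax.three _ _ k) rfl, one_pow]) h2
  · exact absurd (by rw [pow_one' h4 (ax.four _ _ k) rfl, one_pow]) h2
  · rw [ax.sq_eq] at hw
    exact absurd hw ((ax.two _ _ (ax.five _ _ k)).2 w)
  · exact k
  · exact absurd (by rw [pow_one' h4 (ax.seven _ _ k) rfl, one_pow]) h2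
  · exact absurd (pow_gcd h4 (ax.eight_six k)) h2

theorem N_eight {x y : XT} (h : c x y = 8) : N tX x y ≤ 6 := by
  have h6 := ax.eight_six h
  have h2 := ax.eight_two h
  have h3 := ax.eight_three h
  obtain ⟨w, hw⟩ := ax.eight_w h
  have hC : Nat.card (centralizer ({tX x * tX y} : Set MG)) ≤ 774741019852800 := by
    have : Fact (Nat.Prime 3) := ⟨Nat.prime_three⟩
    refine le_trans (Subgroup.card_le_of_le fun u hu => ?_) (H740.OreM.card_three (x := (tX x * tX y) ^ 2) (t := tX w)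
      (orderOf_eq_prime (by rw [← pow_mul]; exact h6) h2) ((ta_iff _).2 ⟨w, rfl⟩)
      (by rw [← hw, ← pow_add, ← pow_add]))
    have h1 : Commute u (tX x * tX y) := mem_centralizer_singleton_iff.1 hu
    exact ⟨mem_centralizer_singleton_iff.2 (h1.pow_right 2).eq,
      mem_centralizer_singleton_iff.2 (by rw [← hw]; exact (h1.pow_right 3).eq)⟩
  refine bound h (fun s s' e => ?_) rfl ((Nat.mul_le_mul_right _ hC).trans (by
    show 774741019852800 * (97239461142009186000 * 64353605265653760000) ≤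
      6 * 808017424794512875886459904961710757005754368000000000
    norm_num))
  rw [← e] at h6 h2 h3
  rcases nine (c s s') with k | k | k | k | k | k | k | k | k
  · exact absurd (by rw [ax.zero_one k, one_pow]) h2
  · exact absurd (ax.one_sq k) h2
  · exact absurd (ax.two_sq k) h2
  · exact absurd (ax.three _ _ k) h3
  · exact absurd (ax.four _ _ k) h3
  · exact absurd (pow_gcd (ax.five_four k) h6) h2
  · exact absurd (pow_gcd (ax.six_four k) h6) h2
  · exact absurd (by rw [pow_one' h6 (ax.seven _ _ k) rfl, one_pow]) h2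
  · exact k

theorem fst_le_N {Y : Set MG} (hY : ∀ y ∈ Y, TA y) (x y : XT) : (fst Y (tX x * tX y)).ncard ≤ N tX x y := by
  classical
  unfold N
  rw [← Set.ncard_coe_finset]
  refine le_trans (Set.ncard_le_ncard (t := tX '' _) ?_ (Set.toFinite _)) (Set.ncard_image_le (Set.toFinite _))
  intro u hu
  obtain ⟨s, rfl⟩ := (ta_iff _).1 (hY u hu.1)
  obtain ⟨s', hs'⟩ := (ta_iff _).1 (hY _ hu.2)
  refine ⟨s, ?_, rfl⟩
  simp only [Finset.coe_filter, Finset.mem_univ, true_and, Set.mem_ofPred_eq]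
  exact ⟨s', by rw [← hs', mul_inv_cancel_left]⟩

theorem ta_sq {t : MG} (h : TA t) : t * t = 1 := by
  obtain ⟨s, rfl⟩ := (ta_iff _).1 h
  exact ax.sq s

theorem ta_order {t : MG} (h : TA t) : orderOf t = 2 := by
  obtain ⟨s, rfl⟩ := (ta_iff _).1 h
  exact order_two (by rw [pow_two]; exact ax.sq s) (ax.ne s)

theorem ta_conj {t : MG} (h : TA t) (g : MG) : TA (g * t * g⁻¹) :=
  (show IsConj _ t from h).trans (isConj_iff.2 ⟨g, rfl⟩)

/-- the orders of the products of two `2A`-involutions -/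
theorem ta_mul_order {s t : MG} (hs : TA s) (ht : TA t) : orderOf (s * t) ≤ 6 := by
  obtain ⟨x, rfl⟩ := (ta_iff _).1 hs
  obtain ⟨y, rfl⟩ := (ta_iff _).1 ht
  rcases ax.pow_or x y with h | h | h
  · exact (orderOf_le_of_pow_eq_one (by norm_num) h).trans (by norm_num)
  · exact orderOf_le_of_pow_eq_one (by norm_num) h
  · exact (orderOf_le_of_pow_eq_one (by norm_num) h).trans (by norm_num)

theorem fst_two {Y : Set MG} (hY : ∀ y ∈ Y, TA y) {u v : MG} (hu : TA u) (hv : TA v) (h : orderOf (u * v) = 2)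
    (hn : ¬ TA (u * v)) : (fst Y (u * v)).ncard ≤ 196560 := by
  obtain ⟨x, rfl⟩ := (ta_iff _).1 hu
  obtain ⟨y, rfl⟩ := (ta_iff _).1 hv
  refine (fst_le_N hY x y).trans (N_two (two_col ax (by rw [← h, pow_orderOf_eq_one]) (fun e => ?_)
    fun w e => hn ((ta_iff _).2 ⟨w, e⟩)))
  rw [e, orderOf_one] at h
  norm_num at h

theorem fst_three {Y : Set MG} (hY : ∀ y ∈ Y, TA y) {u v : MG} (hu : TA u) (hv : TA v) (h : orderOf (u * v) = 3) :
    (fst Y (u * v)).ncard ≤ 920808 := by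
  obtain ⟨x, rfl⟩ := (ta_iff _).1 hu
  obtain ⟨y, rfl⟩ := (ta_iff _).1 hv
  refine (fst_le_N hY x y).trans ?_
  rcases cube_col ax (x := x) (y := y) (by rw [← h, pow_orderOf_eq_one]) (fun e => by
    rw [e, orderOf_one] at h
    norm_num at h) with k | k
  · exact N_three k
  · exact (N_four k).trans (by norm_num)

theorem fst_rest {Y : Set MG} (hY : ∀ y ∈ Y, TA y) {u v : MG} (hu : TA u) (hv : TA v) (h1 : u * v ≠ 1)
    (h2 : orderOf (u * v) ≠ 2) (h3 : orderOf (u * v) ≠ 3) : (fst Y (u * v)).ncard ≤ 2208 := by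
  obtain ⟨x, rfl⟩ := (ta_iff _).1 hu
  obtain ⟨y, rfl⟩ := (ta_iff _).1 hv
  have : Fact (Nat.Prime 3) := ⟨Nat.prime_three⟩
  refine (fst_le_N hY x y).trans ?_
  rcases nine (c x y) with k | k | k | k | k | k | k | k | k
  · exact absurd (ax.zero_one k) h1
  · exact absurd (order_two (ax.one_sq k) h1) h2
  · exact absurd (order_two (ax.two_sq k) h1) h2
  · exact absurd (orderOf_eq_prime (ax.three _ _ k) h1) h3
  · exact absurd (orderOf_eq_prime (ax.four _ _ k) h1) h3
  · exact N_five k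
  · exact (N_six k).trans (by norm_num)
  · exact (N_seven k).trans (by norm_num)
  · exact (N_eight k).trans (by norm_num)

theorem common_le {Y : Set MG} (hY : ∀ y ∈ Y, TA y) {u v : MG} (hu : TA u) (hv : TA v) (h : u ≠ v) :
    {w | w ∈ Y ∧ TA (w * u) ∧ TA (w * v)}.ncard ≤ 3968056 := by
  obtain ⟨x, rfl⟩ := (ta_iff _).1 hu
  obtain ⟨y, rfl⟩ := (ta_iff _).1 hv
  have h0 : c x y ≠ 0 := fun e => h (by rw [(c_diag x y).1 e])
  have h1 : H816.M23.Sq.q (c x y) ≤ 3968056 := by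
    generalize c x y = i at h0
    revert i; decide
  refine le_trans ?_ h1
  rw [← H816.M23.Sq.q_eq, show Nat.card {v : XT // c x v = 1 ∧ c v y = 1} =
    {v : XT | c x v = 1 ∧ c v y = 1}.ncard from Nat.card_coe_set_eq _]
  refine le_trans (Set.ncard_le_ncard (t := tX '' _) ?_ (Set.toFinite _)) (Set.ncard_image_le (Set.toFinite _))
  rintro w ⟨hw, k1, k2⟩
  obtain ⟨s, rfl⟩ := (ta_iff _).1 (hY w hw)
  obtain ⟨w1, e1⟩ := (ta_iff _).1 k1
  obtain ⟨w2, e2⟩ := (ta_iff _).1 k2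
  exact ⟨s, ⟨by rw [isCol.symm]; exact ax.col_one e1, ax.col_one e2⟩, rfl⟩

theorem arith_graph {a e : ℕ} (h : e ^ 2 ≤ a * (e + 3968056 * a ^ 2)) (ha : 16 * 10 ^ 8 < a) :
    100 * (a + e) ≤ 6 * a ^ 2 := by
  by_contra hc
  have h1 : 59 * a ^ 2 ≤ 1000 * e := by nlinarith
  have h2 : a * (59 * a * e) ≤ a * (1000 * e + 1000 * 3968056 * a ^ 2) := by nlinarith
  have h3 : 59 * a * e ≤ 1000 * e + 1000 * 3968056 * a ^ 2 := Nat.le_of_mul_le_mul_left h2 (by omega)
  have h4 : a * (58 * e) ≤ a * (1000 * 3968056 * a) := by nlinarith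
  have h5 : 58 * e ≤ 1000 * 3968056 * a := Nat.le_of_mul_le_mul_left h4 (by omega)
  have h6 : a * (58 * 59 * a) ≤ a * (10 ^ 6 * 3968056) := by nlinarith
  have h7 := Nat.le_of_mul_le_mul_left h6 (by omega)
  omega

/-- **The pairs with a product of order 3.** -/
theorem np_three {Y Z : Set MG} (hY : ∀ y ∈ Y, TA y) (hZ : ∀ u ∈ Y, ∀ v ∈ Y, orderOf (u * v) = 3 → u * v ∈ Z) :
    np Y (fun g => orderOf g = 3) ≤ 920808 * Z.ncard :=
  np_le_mul Z _ hZ fun u hu v hv h => fst_three hY (hY u hu) (hY v hv) h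

/-- **The number of `2A`-involutions.** -/
theorem a_sq {Y Z : Set MG} (hY : ∀ y ∈ Y, TA y) (hZ : ∀ u ∈ Y, ∀ v ∈ Y, u * v ∈ Z) {b P n : ℕ}
    (hb : {g | g ∈ Z ∧ orderOf g = 2 ∧ ¬ TA g}.ncard ≤ b) (hP : np Y (fun g => orderOf g = 3) ≤ P)
    (hn : Z.ncard ≤ n) :
    Y.ncard ≤ 16 * 10 ^ 8 ∨ 94 * Y.ncard ^ 2 ≤ 100 * (196560 * b + P + 2208 * n) := by
  by_cases ha : Y.ncard ≤ 16 * 10 ^ 8
  · exact Or.inl ha
  right
  have h0 : np Y (fun _ => True) ≤ np Y (fun g => g = 1 ∨ (TA g ∨ ((orderOf g = 2 ∧ ¬ TA g) ∨ (orderOf g = 3 ∨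
      (g ≠ 1 ∧ orderOf g ≠ 2 ∧ orderOf g ≠ 3))))) := np_mono fun u _ v _ _ => by tauto
  have k1 := np_or Y (fun g => g = 1) (fun g => (TA g ∨ ((orderOf g = 2 ∧ ¬ TA g) ∨ (orderOf g = 3 ∨
      (g ≠ 1 ∧ orderOf g ≠ 2 ∧ orderOf g ≠ 3)))))
  have k2 := np_or Y (fun g => TA g) (fun g => ((orderOf g = 2 ∧ ¬ TA g) ∨ (orderOf g = 3 ∨
      (g ≠ 1 ∧ orderOf g ≠ 2 ∧ orderOf g ≠ 3))))
  have k3 := np_or Y (fun g => orderOf g = 2 ∧ ¬ TA g) (fun g => (orderOf g = 3 ∨
      (g ≠ 1 ∧ orderOf g ≠ 2 ∧ orderOf g ≠ 3)))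
  have k4 := np_or Y (fun g => orderOf g = 3) (fun g => (g ≠ 1 ∧ orderOf g ≠ 2 ∧ orderOf g ≠ 3))
  have h1 := np_one (Y := Y)
  have h2 := arith_graph (np_graph (Y := Y) (Q := fun g => TA g) 3968056
    fun u hu v hv h => common_le hY (hY u hu) (hY v hv) h) (not_le.1 ha)
  have h3 := np_le_mul (Y := Y) (Q := fun g => orderOf g = 2 ∧ ¬ TA g) {g | g ∈ Z ∧ orderOf g = 2 ∧ ¬ TA g} 196560
    (fun u hu v hv h => ⟨hZ u hu v hv, h⟩) fun u hu v hv h => fst_two hY (hY u hu) (hY v hv) h.1 h.2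
  have h4 := np_le_mul (Y := Y) (Q := fun g => g ≠ 1 ∧ orderOf g ≠ 2 ∧ orderOf g ≠ 3) Z 2208
    (fun u hu v hv _ => hZ u hu v hv) fun u hu v hv h => fst_rest hY (hY u hu) (hY v hv) h.1 h.2.1 h.2.2
  rw [np_true] at h0
  omega

end Cfsg.Agent.SP.Mon.NL
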