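import Cfsg.Agent.H716.RM.Big
import Cfsg.Agent.H537.TC.SevenAll
import Cfsg.Agent.H58.Mon.Fin
import Cfsg.Agent.H199.AbMon
import Cfsg.Agent.H562.OreM.ThreeOdd
import Cfsg.Agent.OrdDiv.Table

/-! # S5755, the Monster: the centralizers of the elements of odd prime order

`tabE` lists multiples of the centralizer orders for the elements commuting with an involution and for
all primes `≥ 11`, `tabO` for the other elements of order 3, 5, 7. -/

set_option autoImplicit false
set_option maxRecDepth 100000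
set_option linter.style.haveILetI false

namespace Cfsg.Agent.SP.Mon.NL

open Cfsg Cfsg.Agent.MonsterX Cfsg.Agent.MonsterX.InstData Cfsg.Agent.MonsterX.MainPack Cfsg.Agent.MonsterU
open Cfsg.Agent.MonsterP Cfsg.Agent.MonsterN Cfsg.Agent.LThreeMB
open Cfsg.Agent.MonsterX.MainBasic Cfsg.Agent.MonsterX.MainSimple Cfsg.Agent.MonsterX.Model
open Cfsg.Agent.MonsterU.Lam2 Cfsg.Agent.MonsterU.TwoCls
open Cfsg.Agent.BpSpor.MBigModel Cfsg.Agent.H199.NSmMon
open Cfsg.Agent.H995.CopEngine (AllKnown)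
open Subgroup (centralizer zpowers mem_centralizer_singleton_iff)

/-- the order of the Monster -/
abbrev NM : ℕ := 808017424794512875886459904961710757005754368000000000

theorem base (hK : AllKnown.{0}) : H940.Eng.Base := ⟨OrdDiv.table, fun S _ _ _ => hK S⟩

theorem sThree (hK : AllKnown.{0}) : H715.Mon.Grp.SThree.{0} := H715.Mon.Grp.sThree (base hK)

/-- multiples of `|C(x)|`, `x` of odd prime order commuting with an involution or of order `≥ 11` -/
def tabE : List (ℕ × ℕ) :=
  [(3, 3 * 90745943887872000), (3, 3 * 1255205709190661721292800), (3, 3 ^ 13 * (448345497600 * 2)),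
   (5, 5 * 273030912000000), (5, 5 ^ 7 * (604800 * 2)), (7, 7 * 4030387200), (7, 7 ^ 5 * 5040),
   (11, 11 * 95040), (13, 73008), (13, 52728), (17, 168 * 17), (19, 60 * 19), (23, 24 * 23), (29, 29 * 3),
   (31, 6 * 31), (41, 41), (47, 47 * 2), (59, 59), (71, 71)]

/-- multiples of `|C(x)|`, `x` of order 3, 5, 7 with `|C(x)|` odd -/
def tabO : List (ℕ × ℕ) :=
  [(3, 3 ^ 20 * (5 ^ 5 * 7 ^ 5)), (3, 3 ^ 20 * (5 ^ 5 * 11 ^ 2)), (3, 3 ^ 20 * (5 ^ 5 * (7 * 13 ^ 3))),
   (5, 7 ^ 6 * (11 ^ 2 * (13 ^ 3 * (5 ^ 9 * 3 ^ 7)))), (7, 3 ^ 7 * 5 ^ 2 * 7 ^ 5)]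

theorem three_in' {x : centralizer ({zz} : Set MG)} (hx : orderOf x = 3) :
    Nat.card ↥(centralizer ({(x : MG)} : Set MG)) = 3 * 90745943887872000 ∨
    Nat.card ↥(centralizer ({(x : MG)} : Set MG)) = 3 * 1255205709190661721292800 ∨
      Nat.card ↥(centralizer ({(x : MG)} : Set MG)) ∣ 3 ^ 13 * (448345497600 * 2) := by
  have := finite
  have := simple
  have I := CoOneFin.coOne
  have htr := KPair.trNe KDone.lft LThreeB.Row.cent (LThreeMBTr.traceNe KDone.lft LThreeMBTr.TensK.tens)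
  have hxo : orderOf (x : MG) = 3 := by rw [Subgroup.orderOf_coe, hx]
  rcases I.ranks (pi x) (orderOf_pi chart hx) with h1 | h1 | h1 | h1
  · exact Or.inr (Or.inr (H199.AbMon.three_zero' hx h1))
  · right; right
    obtain ⟨x₀, u, g, hx₀, hfr₀, huz, hux, hne, hg⟩ :=
      KPair.hasPair KDone.lft LThreeB.Row.cent PreUniq.MonRow.second COct.octPair
    obtain ⟨k, hk⟩ := conj_six chart htr I.ranks I.six
      (fun x hx h2 => ⟨(good_of_inputs chart I hx h2 : Good.{0} _).simple, (good_of_inputs chart I hx h2 : Good.{0} _).nc⟩)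
      hx₀ hfr₀ huz hux hne hg hx h1
    rw [← BpSpor.card_cent_of_conj hk]
    exact H199.AbMon.three_zero' hx₀ hfr₀
  · left
    obtain ⟨e⟩ := LThreeB.isoTh_of_inputs chart I hx h1
    rw [card_XX, hxo, Nat.card_congr e.toEquiv, Cfsg.Agent.S1700.result.2]
  · right; left
    obtain ⟨e⟩ := LThreeB.isoFi_of_inputs chart I hx h1
    rw [card_XX, hxo, Nat.card_congr e.toEquiv, Cfsg.Agent.S1698.result.2]

/-- order 3, `|C(x)|` even -/
theorem three_ev {x : MG} (hx : orderOf x = 3) (he : 2 ∣ Nat.card ↥(centralizer ({x} : Set MG))) :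
    Nat.card ↥(centralizer ({x} : Set MG)) = 3 * 90745943887872000 ∨
    Nat.card ↥(centralizer ({x} : Set MG)) = 3 * 1255205709190661721292800 ∨
      Nat.card ↥(centralizer ({x} : Set MG)) ∣ 3 ^ 13 * (448345497600 * 2) := by
  obtain ⟨x', hx', hc⟩ := exists_in hx (ev_of_even hx (by
    rw [Nat.not_odd_iff_even]; exact even_iff_two_dvd.2 he))
  rw [← hc]
  exact three_in' hx'

theorem exists_inv {x : MG} (he : 2 ∣ Nat.card ↥(centralizer ({x} : Set MG))) :
    ∃ t : MG, orderOf t = 2 ∧ t * x = x * t := by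
  have := finite
  have : Fact (Nat.Prime 2) := ⟨Nat.prime_two⟩
  obtain ⟨t, ht⟩ := exists_prime_orderOf_dvd_card' 2 he
  exact ⟨t, by rw [Subgroup.orderOf_coe, ht], mem_centralizer_singleton_iff.1 t.2⟩

theorem two_dvd_of_inv {x t : MG} (ht : orderOf t = 2) (h : t * x = x * t) :
    2 ∣ Nat.card ↥(centralizer ({x} : Set MG)) := by
  rw [← ht]
  exact Subgroup.orderOf_dvd_natCard _ (mem_centralizer_singleton_iff.2 h)

theorem two_dvd_of_ev {x : MG} (he : Ev x) : 2 ∣ Nat.card ↥(centralizer ({x} : Set MG)) := by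
  obtain ⟨g, hg⟩ := he
  refine two_dvd_of_inv ?_ hg
  rw [← orderOf_zz]
  exact orderOf_injective (MulAut.conj g).toMonoidHom (MulAut.conj g).injective zz

/-- order 5, `|C(x)|` odd -/
theorem five_odd (hK : AllKnown.{0}) {x : MG} (hx : orderOf x = 5)
    (ho : ¬ 2 ∣ Nat.card ↥(centralizer ({x} : Set MG))) :
    Nat.card ↥(centralizer ({x} : Set MG)) ∣ 7 ^ 6 * (11 ^ 2 * (13 ^ 3 * (5 ^ 9 * 3 ^ 7))) := by
  have hfin : Finite MG := finite
  have hS := sThree hK
  have hno : H8.Mon.NoInv x := by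
    rintro ⟨v, hv, hvx⟩
    exact ho (two_dvd_of_inv hv hvx)
  have X := H58.MonFin.exact hK hS
  have h17 := H199.AbMon.five_not_dvd' (r := 17) (by simp) hx
  have h19 : ¬ 19 ∣ Nat.card ↥(centralizer ({x} : Set MG)) := fun h => by
    have : Fact (Nat.Prime 19) := ⟨by norm_num⟩
    obtain ⟨y, hy⟩ := exists_prime_orderOf_dvd_card' 19 h
    exact hno (H8.Mon.nineteen X.nineteen hx (y := y) (by rw [Subgroup.orderOf_coe, hy])
      (mem_centralizer_singleton_iff.1 y.2).symm)
  have h3 : ¬ 3 ^ (7 + 1) ∣ Nat.card ↥(centralizer ({x} : Set MG)) := H8.Mon.not_three (Or.inl ⟨rfl, rfl⟩) hx hno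
  have hM : ∀ {p k : ℕ}, ¬ p ^ (k + 1) ∣ Nat.card MG → ¬ p ^ (k + 1) ∣ Nat.card ↥(centralizer ({x} : Set MG)) :=
    fun h h1 => h (h1.trans (Subgroup.card_subgroup_dvd_card _))
  have g := H537.OreM.dvd_card x
  have g := H537.OreM.step (j := 0) (by norm_num) g (H537.OreM.no_pow ho)
  have g := H537.OreM.step (j := 7) (by norm_num) g h3
  have g := H537.OreM.step (j := 9) (by norm_num) g (hM (by rw [card_M]; norm_num))
  have g := H537.OreM.step (j := 6) (by norm_num) g (hM (by rw [card_M]; norm_num))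
  have g := H537.OreM.step (j := 2) (by norm_num) g (hM (by rw [card_M]; norm_num))
  have g := H537.OreM.step (j := 3) (by norm_num) g (hM (by rw [card_M]; norm_num))
  have g := H537.OreM.step (j := 0) (by norm_num) g (H537.OreM.no_pow h17)
  have g := H537.OreM.step (j := 0) (by norm_num) g (H537.OreM.no_pow h19)
  have g := H537.OreM.step (j := 0) (by norm_num) g (H537.OreM.no_pow (H199.AbMon.five_not_dvd' (r := 23) (by simp) hx))
  have g := H537.OreM.step (j := 0) (by norm_num) g (H537.OreM.no_pow (H199.AbMon.five_not_dvd' (r := 29) (by simp) hx))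
  have g := H537.OreM.step (j := 0) (by norm_num) g (H537.OreM.no_pow
    (H8.Mon.no_comm (by norm_num) (by norm_num) X.thirtyone hx))
  have g := H537.OreM.step (j := 0) (by norm_num) g (H537.OreM.no_pow
    (H8.Mon.no_comm (by norm_num) (by norm_num) X.fortyone hx))
  have g := H537.OreM.step (j := 0) (by norm_num) g (H537.OreM.no_pow (H199.AbMon.five_not_dvd' (r := 47) (by simp) hx))
  have g := H537.OreM.step (j := 0) (by norm_num) g (H537.OreM.no_pow (H199.AbMon.five_not_dvd' (r := 59) (by simp) hx))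
  have g := H537.OreM.step (j := 0) (by norm_num) g (H537.OreM.no_pow
    (H8.Mon.no_comm (by norm_num) (by norm_num) X.seventyone hx))
  exact g.trans (by norm_num)

/-- **Centralizers of even order, and all primes `≥ 11`.** -/
theorem cent_E (hK : AllKnown.{0}) {p : ℕ} (hp : p.Prime) (hp2 : p ≠ 2) {x : MG} (hx : orderOf x = p)
    (he : 11 ≤ p ∨ 2 ∣ Nat.card ↥(centralizer ({x} : Set MG))) :
    ∃ c, (p, c) ∈ tabE ∧ Nat.card ↥(centralizer ({x} : Set MG)) ∣ c := by
  by_cases h11 : 11 ≤ p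
  · have h := H716.RM.cents (base hK) hp h11 hx
    refine ⟨_, ?_, dvd_rfl⟩
    unfold tabE
    exact List.mem_append_right [_, _, _, _, _, _, _] h
  replace he := he.resolve_left h11
  have h2 := hp.two_le
  have hc : p = 3 ∨ p = 5 ∨ p = 7 := by
    have : p < 11 := by omega
    interval_cases p <;> simp_all (config := {decide := true})
  rcases hc with rfl | rfl | rfl
  · rcases three_ev hx he with h | h | h
    · exact ⟨_, by simp [tabE], h.dvd⟩
    · exact ⟨_, by simp [tabE], h.dvd⟩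
    · exact ⟨_, by simp [tabE], h⟩
  · obtain ⟨t, ht, htx⟩ := exists_inv he
    rcases H58.MonFiveB.five hx (H58.MonThirteen.ev_five hx ht htx.symm) with h | h
    · exact ⟨_, by simp [tabE], h.dvd⟩
    · exact ⟨_, by simp [tabE], h⟩
  · rcases H537.TC.cases7 hx (MSevenT.hex7 x hx he) with ⟨-, -, -, -, h⟩ | h
    · exact ⟨_, by simp [tabE], h.dvd⟩
    · exact ⟨_, by simp [tabE], h.dvd⟩

/-- **All elements of odd prime order.** -/
theorem cent_all (hK : AllKnown.{0}) {p : ℕ} (hp : p.Prime) (hp2 : p ≠ 2) {x : MG} (hx : orderOf x = p) :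
    ∃ c, (p, c) ∈ tabE ++ tabO ∧ Nat.card ↥(centralizer ({x} : Set MG)) ∣ c := by
  by_cases he : 11 ≤ p ∨ 2 ∣ Nat.card ↥(centralizer ({x} : Set MG))
  · obtain ⟨c, h1, h2⟩ := cent_E hK hp hp2 hx he
    exact ⟨c, List.mem_append_left _ h1, h2⟩
  obtain ⟨h11, ho⟩ := not_or.1 he
  have h2 := hp.two_le
  have hc : p = 3 ∨ p = 5 ∨ p = 7 := by
    have : p < 11 := by omega
    interval_cases p <;> simp_all (config := {decide := true})
  rcases hc with rfl | rfl | rfl
  · rcases H562.OreM.ThreeOdd.three_odd hK (sThree hK) hx (fun t ht h => ho (two_dvd_of_inv ht h)) with h | h | h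
    · exact ⟨_, List.mem_append_right _ (by simp [tabO]), h⟩
    · exact ⟨_, List.mem_append_right _ (by simp [tabO]), h⟩
    · exact ⟨_, List.mem_append_right _ (by simp [tabO]), h⟩
  · exact ⟨_, List.mem_append_right _ (by simp [tabO]), five_odd hK hx ho⟩
  · exact ⟨_, List.mem_append_right _ (by simp [tabO]),
      H537.TC.noinv_seven hK (sThree hK) hx fun h => ho (two_dvd_of_ev h)⟩

/-- order 3: the bound -/
theorem cent_three_le (hK : AllKnown.{0}) {x : MG} (hx : orderOf x = 3) :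
    Nat.card ↥(centralizer ({x} : Set MG)) ≤ 3 * 1255205709190661721292800 := by
  obtain ⟨c, h1, h2⟩ := cent_all hK Nat.prime_three (by norm_num) hx
  have h3 : ∀ e ∈ tabE ++ tabO, 0 < e.2 ∧ e.2 ≤ 3 * 1255205709190661721292800 := by decide +kernel
  exact (Nat.le_of_dvd (h3 _ h1).1 h2).trans (h3 _ h1).2

/-- prime order at least 5: the bound -/
theorem cent_big_le (hK : AllKnown.{0}) {q : ℕ} (hq : q.Prime) (hq5 : 5 ≤ q) {x : MG} (hx : orderOf x = q) :
    Nat.card ↥(centralizer ({x} : Set MG)) ≤ 2 * 10 ^ 15 := H58.MonFin.hB hK (sThree hK) hq hq5 hx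

/-- exact orders for the primes `≥ 11` -/
theorem cent_exact (hK : AllKnown.{0}) {p : ℕ} (hp : p.Prime) (h : 11 ≤ p) {x : MG} (hx : orderOf x = p) :
    (p, Nat.card (centralizer ({x} : Set MG))) ∈ [(11, 11 * 95040), (13, 73008), (13, 52728), (17, 168 * 17),
      (19, 60 * 19), (23, 24 * 23), (29, 29 * 3), (31, 6 * 31), (41, 41), (47, 47 * 2), (59, 59), (71, 71)] :=
  H716.RM.cents (base hK) hp h hx

/-- **Excluded element orders**: an element of order `p * m`, `p ≥ 11` prime. -/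
theorem order_dvd (hK : AllKnown.{0}) {p : ℕ} (hp : p.Prime) (h : 11 ≤ p) {g : MG} (hg : p ∣ orderOf g) :
    ∃ c, (p, c) ∈ [(11, 11 * 95040), (13, 73008), (13, 52728), (17, 168 * 17),
      (19, 60 * 19), (23, 24 * 23), (29, 29 * 3), (31, 6 * 31), (41, 41), (47, 47 * 2), (59, 59), (71, 71)] ∧
      orderOf g ∣ c := by
  have := finite
  obtain ⟨m, hm⟩ := hg
  have hm0 : m ≠ 0 := by
    rintro rfl
    exact (orderOf_pos g).ne' (by simpa using hm)
  have hx : orderOf (g ^ m) = p := by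
    rw [orderOf_pow' _ hm0, hm, Nat.gcd_eq_right (Dvd.intro_left p rfl), Nat.mul_div_cancel _ (Nat.pos_of_ne_zero hm0)]
  refine ⟨_, cent_exact hK hp h hx, ?_⟩
  exact Subgroup.orderOf_dvd_natCard _ (mem_centralizer_singleton_iff.2 ((Commute.refl g).pow_right m).eq)

theorem not_order (hK : AllKnown.{0}) {g : MG} {n : ℕ} (hn : n ∈ [65, 77, 85, 91, 205, 341]) : orderOf g ≠ n := by
  intro e
  simp only [List.mem_cons, List.not_mem_nil, or_false] at hn
  have key : ∀ p : ℕ, p.Prime → 11 ≤ p → p ∣ n → (∀ c, (p, c) ∈ [(11, 11 * 95040), (13, 73008), (13, 52728), (17, 168 * 17),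
      (19, 60 * 19), (23, 24 * 23), (29, 29 * 3), (31, 6 * 31), (41, 41), (47, 47 * 2), (59, 59), (71, 71)] → ¬ n ∣ c) →
      False := by
    intro p hp h11 hd hc
    obtain ⟨c, h1, h2⟩ := order_dvd hK hp h11 (g := g) (e ▸ hd)
    exact hc c h1 (e ▸ h2)
  rcases hn with rfl | rfl | rfl | rfl | rfl | rfl
  · exact key 13 (by norm_num) (by norm_num) (by norm_num) (by simp)
  · exact key 11 (by norm_num) (by norm_num) (by norm_num) (by simp)
  · exact key 17 (by norm_num) (by norm_num) (by norm_num) (by simp)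
  · exact key 13 (by norm_num) (by norm_num) (by norm_num) (by simp)
  · exact key 41 (by norm_num) (by norm_num) (by norm_num) (by simp)
  · exact key 31 (by norm_num) (by norm_num) (by norm_num) (by simp)

end Cfsg.Agent.SP.Mon.NL
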