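import Cfsg.Agent.SP.Mon.NL.TwoA
import Cfsg.Agent.SP.Mon.NL.Cent
import Cfsg.Agent.SP.NegS.Gen

/-! # S5755, the Monster: a numerical test

`pass n k` : no maximal pair `(A, B)` of the Monster has `|A| ∣ n` and `|A : B| ∣ k` (`false_of_pass`). -/

set_option autoImplicit false
set_option maxRecDepth 100000
set_option linter.style.haveILetI false

namespace Cfsg.Agent.SP.Mon.NL

open Cfsg.Agent.BpSpor.MBigModel (MG zz cls card_M card_cent_z card_cent_t)
open Cfsg.Agent.LThreeB.Row (TA)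
open Cfsg.Agent.H995.CopEngine (AllKnown)
open Subgroup (centralizer zpowers mem_centralizer_singleton_iff)

/-- `|C(2A)|` -/
abbrev cA : ℕ := 2 * 4154781481226426191177580544000000

/-- `|C(2B)|` -/
abbrev cB : ℕ := 2 ^ 25 * 4157776806543360000

theorem card_cent_b {v : MG} (hv : orderOf v = 2) (hn : ¬ TA v) : Nat.card (centralizer ({v} : Set MG)) = cB := by
  obtain ⟨g, hg⟩ := (cls hv).resolve_right hn
  rw [BpSpor.card_cent_of_conj hg, card_cent_z]

/-- **The prime 2**: `a`, `b` bound the numbers of `2A`- and `2B`-involutions of `A`. -/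
theorem two_le {A B : Subgroup MG} (h : IsPair A B) (hd : 2 ∣ B.relIndex A) {a b : ℕ}
    (ha : {x | x ∈ A ∧ TA x}.ncard ≤ a) (hb : {x | x ∈ A ∧ orderOf x = 2 ∧ ¬ TA x}.ncard ≤ b) :
    NM ≤ a ^ 2 * cA + b ^ 2 * cB := by
  have := BpSpor.MBigModel.finite
  have h1 := h.count_two Nat.prime_two hd TA (fun x t _ hx => by simpa using ta_conj hx t⁻¹) a cA b cB
    (le_trans (Set.ncard_le_ncard (fun x hx => And.intro hx.1 hx.2.2) (Set.toFinite _)) ha) hb
    (fun x _ _ hx => (card_cent_t hx).le) (fun x _ ho hx => (card_cent_b ho hx).le)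
  rwa [card_M, show 2 - 1 = 1 from rfl, one_mul] at h1

/-- **The prime 3**: `n` bounds the number of elements of order 3 of `A`. -/
theorem three_le (hK : AllKnown.{0}) {A B : Subgroup MG} (h : IsPair A B) (hd : 3 ∣ B.relIndex A) {n : ℕ}
    (hn : {x | x ∈ A ∧ orderOf x = 3}.ncard ≤ n) : 2 * NM ≤ n ^ 2 * (3 * 1255205709190661721292800) := by
  have := BpSpor.MBigModel.finite
  have h1 := h.count_one Nat.prime_three hd n _ hn fun x _ hx => cent_three_le hK hx
  rwa [card_M] at h1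

/-- **The primes `≥ 5`**. -/
theorem big_le (hK : AllKnown.{0}) {A B : Subgroup MG} (h : IsPair A B) {r : ℕ} (hr : r.Prime) (h5 : 5 ≤ r)
    (hd : r ∣ B.relIndex A) {n : ℕ} (hn : {x | x ∈ A ∧ orderOf x = r}.ncard ≤ n) :
    4 * NM ≤ n ^ 2 * (2 * 10 ^ 15) := by
  have := BpSpor.MBigModel.finite
  have h1 := h.count_one hr hd n _ hn fun x _ hx => cent_big_le hK hr h5 hx
  rw [card_M] at h1
  exact (Nat.mul_le_mul_right _ (by omega)).trans h1

/-! ### All involutions of a subgroup -/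

/-- bound for `|C_X(x)|`, `x` of prime order `≥ p`, `|X| ∣ n` -/
def cc (p n : ℕ) : ℕ :=
  ((tabE ++ tabO).filter fun e => Nat.ble p e.1 && Nat.beq (n % e.1) 0).foldr (fun e m => max (Nat.gcd n e.2) m) 0

theorem le_foldr {n : ℕ} {l : List (ℕ × ℕ)} {e : ℕ × ℕ} (he : e ∈ l) :
    Nat.gcd n e.2 ≤ l.foldr (fun e m => max (Nat.gcd n e.2) m) 0 := by
  induction l with
  | nil => simp at he
  | cons a l ih =>
    rcases List.mem_cons.1 he with rfl | h
    · exact le_max_left _ _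
    · exact (ih h).trans (le_max_right _ _)

theorem le_cc {p n q c : ℕ} (h : (q, c) ∈ tabE ++ tabO) (hp : p ≤ q) (hq : q ∣ n) : Nat.gcd n c ≤ cc p n :=
  le_foldr (e := (q, c)) (List.mem_filter.2 ⟨h, by
    simp only [Bool.and_eq_true, Nat.ble_eq, Nat.beq_eq]
    exact ⟨hp, Nat.mod_eq_zero_of_dvd hq⟩⟩)

theorem div_gcd_dvd {x P R : ℕ} (hx : 0 < x) (h : x ∣ P * R) : x / Nat.gcd x P ∣ R := by
  have hg : 0 < Nat.gcd x P := Nat.gcd_pos_of_pos_left _ hx
  have hc := Nat.coprime_div_gcd_div_gcd (m := x) (n := P) hg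
  refine hc.dvd_of_dvd_mul_left (Nat.dvd_of_mul_dvd_mul_left hg ?_)
  rwa [← mul_assoc, Nat.mul_div_cancel' (Nat.gcd_dvd_left _ _), Nat.mul_div_cancel' (Nat.gcd_dvd_right _ _)]

theorem exists_pow_order {G : Type*} [Group G] [Finite G] {g : G} {q : ℕ} (h : q ∣ orderOf g) :
    ∃ m, orderOf (g ^ m) = q := by
  obtain ⟨m, hm⟩ := h
  have hm0 : m ≠ 0 := by
    rintro rfl
    exact (orderOf_pos g).ne' (by simpa using hm)
  exact ⟨m, by rw [orderOf_pow' _ hm0, hm, Nat.gcd_eq_right (Dvd.intro_left q rfl),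
    Nat.mul_div_cancel _ (Nat.pos_of_ne_zero hm0)]⟩

theorem card_dvd_NM (X : Subgroup MG) : Nat.card X ∣ NM := by
  rw [NM, ← card_M]; exact X.card_subgroup_dvd_card

theorem np_part {X : Subgroup MG} {Y : Set MG} (hY : ∀ y ∈ Y, y ∈ X ∧ y * y = 1) {n P R : ℕ} (hn : Nat.card X ∣ n)
    (hn0 : 0 < n) (π : Set ℕ) (hπ : ∀ q ∈ π, q.Prime) (hPR : NM = P * R) (hP : ∀ q : ℕ, q.Prime → q ∣ P → q ∈ π)
    (hR : ∀ q ∈ π, ¬ q ∣ R) {Q : MG → Prop}
    (hQ : ∀ u ∈ Y, ∀ v ∈ Y, Q (u * v) → ∀ q : ℕ, q.Prime → q ∣ orderOf (u * v) → q ∈ π) :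
    np Y Q ≤ Nat.gcd n P * n := by
  have := BpSpor.MBigModel.finite
  refine (np_pi hY π hπ (Nat.gcd (Nat.card X) P) (Nat.gcd_dvd_left _ _)
    (fun q hq hd => hP q hq (hd.trans (Nat.gcd_dvd_right _ _)))
    (fun q hq hd => hR q hq (hd.trans (div_gcd_dvd Nat.card_pos (hPR ▸ card_dvd_NM X)))) hQ).trans ?_
  exact Nat.mul_le_mul (Nat.le_of_dvd (Nat.gcd_pos_of_pos_left _ hn0) (Nat.gcd_dvd_gcd_of_dvd_left _ hn))
    (Nat.le_of_dvd hn0 hn)

theorem invol_sq_aux (hK : AllKnown.{0}) {X : Subgroup MG} {Y : Set MG} (hY : ∀ y ∈ Y, y ∈ X ∧ y * y = 1) {n P R p : ℕ}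
    (hn : Nat.card X ∣ n) (hn0 : 0 < n) (hp : 3 ≤ p) (hPR : NM = P * R) (hP : ∀ q : ℕ, q.Prime → q ∣ P → q < p)
    (hR : ∀ q : ℕ, q < p → 2 ≤ q → Nat.Coprime q R) : Y.ncard ^ 2 ≤ (Nat.gcd n P + cc p n) * n := by
  have := BpSpor.MBigModel.finite
  rw [← np_true, add_mul]
  refine (np_split Y _ fun g => ∀ q : ℕ, q.Prime → q ∣ orderOf g → q < p).trans (Nat.add_le_add ?_ ?_)
  · exact np_part hY hn hn0 {q | q.Prime ∧ q < p} (fun _ h => h.1) hPR (fun q hq h => ⟨hq, hP q hq h⟩)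
      (fun q hq => (Nat.Prime.coprime_iff_not_dvd hq.1).1 (hR q hq.2 hq.1.two_le))
      fun u _ v _ h q hq hd => ⟨hq, h.2 q hq hd⟩
  · refine (np_cent hY (cc p n) fun u hu v hv h => ?_).trans (Nat.mul_le_mul_left _ (Nat.le_of_dvd hn0 hn))
    have h2 := h.2
    push Not at h2
    obtain ⟨q, hq, hd, hpq⟩ := h2
    obtain ⟨m, hm⟩ := exists_pow_order hd
    obtain ⟨c, h1, h3⟩ := cent_all hK hq (by omega) hm
    have huv : u * v ∈ X := X.mul_mem (hY u hu).1 (hY v hv).1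
    refine le_trans (Nat.le_of_dvd (Nat.gcd_pos_of_pos_left _ hn0) (Nat.dvd_gcd ?_ ?_))
      (le_cc h1 hpq (hd.trans ((Subgroup.orderOf_dvd_natCard _ huv).trans hn)))
    · exact (Subgroup.card_dvd_of_le inf_le_left).trans hn
    · refine (Subgroup.card_dvd_of_le fun g hg => ?_).trans h3
      have h4 : Commute g (u * v) := mem_centralizer_singleton_iff.1 hg.2
      exact mem_centralizer_singleton_iff.2 (h4.pow_right m).eq

/-- a bound for the number of classes met by products of two involutions -/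
def KB (n : ℕ) : ℕ :=
  min (Nat.gcd n (2 ^ 46 * 3 ^ 20) + cc 5 n) (min (Nat.gcd n (2 ^ 46 * 3 ^ 20 * 5 ^ 9) + cc 7 n)
    (Nat.gcd n (2 ^ 46 * 3 ^ 20 * 5 ^ 9 * 7 ^ 6) + cc 11 n))

theorem lt_of_dvd_pow {q r k p : ℕ} (hq : q.Prime) (hr : 0 < r) (hp : r < p) (h : q ∣ r ^ k) : q < p :=
  (Nat.le_of_dvd hr (hq.dvd_of_dvd_pow h)).trans_lt hp

/-- **The involutions of a subgroup.** -/
theorem invol_sq (hK : AllKnown.{0}) {X : Subgroup MG} {Y : Set MG} (hY : ∀ y ∈ Y, y ∈ X ∧ y * y = 1) {n : ℕ}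
    (hn : Nat.card X ∣ n) (hn0 : 0 < n) : Y.ncard ^ 2 ≤ KB n * n := by
  unfold KB
  rw [min_mul, min_mul]
  refine le_min ?_ (le_min ?_ ?_)
  · refine invol_sq_aux hK hY (R := NM / (2 ^ 46 * 3 ^ 20)) hn hn0 (by norm_num) (by norm_num) (fun q hq h => ?_)
      (by decide +kernel)
    rcases (hq.dvd_mul).1 h with h | h <;> exact lt_of_dvd_pow hq (by norm_num) (by norm_num) h
  · refine invol_sq_aux hK hY (R := NM / (2 ^ 46 * 3 ^ 20 * 5 ^ 9)) hn hn0 (by norm_num) (by norm_num) (fun q hq h => ?_)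
      (by decide +kernel)
    rcases (hq.dvd_mul).1 h with h | h
    · rcases (hq.dvd_mul).1 h with h | h <;> exact lt_of_dvd_pow hq (by norm_num) (by norm_num) h
    · exact lt_of_dvd_pow hq (by norm_num) (by norm_num) h
  · refine invol_sq_aux hK hY (R := NM / (2 ^ 46 * 3 ^ 20 * 5 ^ 9 * 7 ^ 6)) hn hn0 (by norm_num) (by norm_num)
      (fun q hq h => ?_) (by decide +kernel)
    rcases (hq.dvd_mul).1 h with h | h
    · rcases (hq.dvd_mul).1 h with h | h
      · rcases (hq.dvd_mul).1 h with h | h <;> exact lt_of_dvd_pow hq (by norm_num) (by norm_num) h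
      · exact lt_of_dvd_pow hq (by norm_num) (by norm_num) h
    · exact lt_of_dvd_pow hq (by norm_num) (by norm_num) h

/-- pairs of involutions with a product of order 3 -/
theorem np_three_part {X : Subgroup MG} {Y : Set MG} (hY : ∀ y ∈ Y, y ∈ X ∧ y * y = 1) {n : ℕ}
    (hn : Nat.card X ∣ n) (hn0 : 0 < n) : np Y (fun g => orderOf g = 3) ≤ Nat.gcd n (3 ^ 20) * n := by
  refine np_part hY (R := NM / 3 ^ 20) hn hn0 {3} (by simp [Nat.prime_three]) (by norm_num)
    (fun q hq h => (Nat.prime_dvd_prime_iff_eq hq Nat.prime_three).1 (hq.dvd_of_dvd_pow h))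
    (by rintro q rfl; norm_num)
    fun u _ v _ h q hq hd => ?_
  rw [h] at hd
  exact (Nat.prime_dvd_prime_iff_eq hq Nat.prime_three).1 hd

/-! ### The test -/

/-- one step of Newton's method -/
def nw (n s : ℕ) : ℕ := (s + n / s) / 2 + 1

/-- an upper bound for the square root -/
def sqU (n : ℕ) : ℕ := nw n (nw n (nw n (nw n (nw n (2 ^ (Nat.log2 n / 2 + 1))))))

/-- the test for index 2, given the bounds `b2`, `s` -/
def pass2' (n b2 s : ℕ) : Bool :=
  Nat.ble b2 (s * s) && Nat.blt (max (94 * (16 * 10 ^ 8) ^ 2)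
    (100 * (196560 * s + min (Nat.gcd n (3 ^ 20) * n) (920808 * (n / 2)) + 2208 * n)) * cA + 94 * b2 * cB) (94 * NM)

/-- the test for index 2 -/
def pass2 (n : ℕ) : Bool := pass2' n (min (n * n) (KB n * n)) (sqU (min (n * n) (KB n * n)))

theorem mem_of_two {T : Type*} [Group T] {A B : Subgroup T} (h2 : B.relIndex A = 2) {x : T} (hx : x ∈ A)
    (h3 : orderOf x = 3) : x ∈ B := by
  by_contra hB
  have h1 := NegS.mul_mem_of_two h2 hx hx hB hB
  have h4 : x = (x * x) * (x * x) := by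
    have := pow_orderOf_eq_one x
    rw [h3] at this
    calc x = x ^ 3 * x := by rw [this, one_mul]
      _ = _ := by simp only [pow_succ, pow_zero, one_mul, mul_assoc]
  exact hB (h4 ▸ B.mul_mem h1 h1)

theorem false_of_pass2 (hK : AllKnown.{0}) {A B : Subgroup MG} (h : IsPair A B) (h2 : B.relIndex A = 2) {n : ℕ}
    (hn : Nat.card A ∣ n) (hn0 : 0 < n) (hp : pass2 n = true) : False := by
  have := BpSpor.MBigModel.finite
  have hle := Nat.le_of_dvd hn0 hn
  have h1 := two_le h (by rw [h2]) le_rfl le_rfl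
  set a := {x | x ∈ A ∧ TA x}.ncard with ha
  set b := {x | x ∈ A ∧ orderOf x = 2 ∧ ¬ TA x}.ncard with hb
  have hb1 : b ≤ n := (ncard_le_card_subgroup fun _ hx => hx.1).trans hle
  have hb2 : b ^ 2 ≤ min (n * n) (KB n * n) := le_min (by rw [pow_two]; exact Nat.mul_le_mul hb1 hb1)
    (invol_sq hK (X := A) (fun y hy => ⟨hy.1, by rw [← pow_two, ← hy.2.1, pow_orderOf_eq_one]⟩) hn hn0)
  unfold pass2 pass2' at hp
  generalize min (n * n) (KB n * n) = b2 at hp hb2
  generalize sqU b2 = s at hp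
  simp only [Bool.and_eq_true, Nat.ble_eq, Nat.blt_eq] at hp
  obtain ⟨hs, hp⟩ := hp
  have hbs : b ≤ s := by
    rw [← pow_two] at hs
    exact (Nat.pow_le_pow_iff_left (by norm_num)).1 (hb2.trans hs)
  have hY : ∀ y ∈ {x | x ∈ A ∧ TA x}, y ∈ A ∧ y * y = 1 := fun y hy => ⟨hy.1, ta_sq hy.2⟩
  have hP : np {x | x ∈ A ∧ TA x} (fun g => orderOf g = 3) ≤ min (Nat.gcd n (3 ^ 20) * n) (920808 * (n / 2)) := by
    refine le_min (np_three_part hY hn hn0) ((np_three (Z := B) (fun y hy => hy.2) fun u hu v hv h3 =>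
      mem_of_two h2 (A.mul_mem hu.1 hv.1) h3).trans (Nat.mul_le_mul_left _ ?_))
    have h3 := NegS.card_mul_relIndex h.le
    rw [h2] at h3
    rw [← Nat.card_coe_set_eq, SetLike.coe_sort_coe]
    omega
  have h4 := a_sq (Y := {x | x ∈ A ∧ TA x}) (Z := A) (fun y hy => hy.2) (fun u hu v hv => A.mul_mem hu.1 hv.1)
    (b := s) (n := n) hbs hP (by rw [← Nat.card_coe_set_eq, SetLike.coe_sort_coe]; exact hle)
  have h5 : 94 * a ^ 2 ≤ max (94 * (16 * 10 ^ 8) ^ 2)
      (100 * (196560 * s + min (Nat.gcd n (3 ^ 20) * n) (920808 * (n / 2)) + 2208 * n)) := by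
    rcases h4 with h4 | h4
    · exact le_max_of_le_left (Nat.mul_le_mul_left _ (Nat.pow_le_pow_left h4 2))
    · exact le_max_of_le_right h4
  generalize max (94 * (16 * 10 ^ 8) ^ 2)
      (100 * (196560 * s + min (Nat.gcd n (3 ^ 20) * n) (920808 * (n / 2)) + 2208 * n)) = U at h5 hp
  have h6 : 94 * NM ≤ U * cA + 94 * b2 * cB :=
    calc 94 * NM ≤ 94 * (a ^ 2 * cA + b ^ 2 * cB) := Nat.mul_le_mul_left _ h1
      _ = 94 * a ^ 2 * cA + 94 * b ^ 2 * cB := by ring
      _ ≤ _ := Nat.add_le_add (Nat.mul_le_mul_right _ h5) (Nat.mul_le_mul_right _ (Nat.mul_le_mul_left _ hb2))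
  exact absurd hp (not_lt.2 h6)

/-- the test for the odd primes -/
def passOdd (n k : ℕ) : Bool :=
  (Nat.blt 0 (k % 3) || Nat.blt (n ^ 2 * (3 * 1255205709190661721292800)) (2 * NM)) &&
  (Nat.beq (2 ^ 46 * 3 ^ 20 % k) 0 || Nat.blt (n ^ 2 * (2 * 10 ^ 15)) (4 * NM))

theorem false_of_passOdd (hK : AllKnown.{0}) {A B : Subgroup MG} (h : IsPair A B) {r : ℕ} (hr : r.Prime) (h2 : r ≠ 2)
    (hd : r ∣ B.relIndex A) {n k : ℕ} (hle : Nat.card A ≤ n) (hk : B.relIndex A ∣ k) (hp : passOdd n k = true) :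
    False := by
  have := BpSpor.MBigModel.finite
  unfold passOdd at hp
  simp only [Bool.and_eq_true, Bool.or_eq_true, Nat.beq_eq, Nat.blt_eq] at hp
  by_cases h3 : r = 3
  · subst h3
    have h4 := three_le hK h hd ((ncard_le_card_subgroup fun _ hx => hx.1).trans hle)
    rcases hp.1 with h5 | h5
    · exact h5.ne' (Nat.mod_eq_zero_of_dvd (hd.trans hk))
    · exact absurd h5 (not_lt.2 h4)
  · have h5 : 5 ≤ r := by
      by_contra hc
      have := hr.two_le
      have h4 : r = 4 := by omega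
      subst h4
      norm_num at hr
    have h4 := big_le hK h hr h5 hd ((ncard_le_card_subgroup fun _ hx => hx.1).trans hle)
    rcases hp.2 with h6 | h6
    · have h7 := (hd.trans hk).trans (Nat.dvd_of_mod_eq_zero h6)
      have : r < 5 := by
        rcases (hr.dvd_mul).1 h7 with h | h <;> exact lt_of_dvd_pow hr (by norm_num) (by norm_num) h
      omega
    · exact absurd h6 (not_lt.2 h4)

/-- **The test**: `|A| ∣ n`, `|A : B| ∣ k` (`k = 0`: no information on the index). -/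
def pass (n k : ℕ) : Bool := (Nat.blt 0 (k % 2) || pass2 n) && passOdd n k

theorem false_of_pass (hK : AllKnown.{0}) {A B : Subgroup MG} (h : IsMaxPair A B) {n k : ℕ}
    (hn : Nat.card A ∣ n) (hn0 : 0 < n) (hk : B.relIndex A ∣ k) (hp : pass n k = true) : False := by
  have := BpSpor.MBigModel.finite
  unfold pass at hp
  simp only [Bool.and_eq_true, Bool.or_eq_true, Nat.blt_eq] at hp
  rcases NegS.two_or_odd h with h2 | ⟨r, hr, h2, hd⟩
  · rcases hp.1 with h3 | h3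
    · exact h3.ne' (Nat.mod_eq_zero_of_dvd (h2 ▸ hk))
    · exact false_of_pass2 hK h.pair h2 hn hn0 h3
  · exact false_of_passOdd hK h.pair hr h2 hd (Nat.le_of_dvd hn0 hn) hk hp.2

theorem pass_test : pass (3311126603366400 * 2) 2 = true ∧ pass (2 ^ 20 * 3 ^ 5 * 5 ^ 3 * 7 ^ 3 * 11) 0 = true := by
  decide +kernel

end Cfsg.Agent.SP.Mon.NL
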