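import Cfsg.Agent.SP.Mon.NL.Red
import Cfsg.Agent.H305.SprFi24
import Cfsg.Agent.H816.Fin24

/-! # S5755, the Monster: no pair on `Fi₂₄`

The products of three and of four commuting transpositions invert elements of order 7, so they are not of class
`2A`; the class sizes then contradict `two_le`. -/

set_option autoImplicit false
set_option maxRecDepth 100000
set_option linter.style.haveILetI false

namespace Cfsg.Agent.SP.Mon.NL

open Subgroup Cfsg Cfsg.Agent.R08 Cfsg.Agent.R08.FiTwentyFour Equiv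
open Cfsg.Agent.R08.TetTwo (IsTet)
open Cfsg.Agent.H833.Out24 (Tri3 outer_cases)
open Cfsg.Agent.H841.Five (Phi Phi_injective Phi_swap_mem_L)
open Cfsg.Agent.H305.SprFi24 (ct ct_two ct_three exists_four ct_conj)
open Cfsg.Agent.H840.Lk (card_conj)
open Cfsg.Spor (Fi24)
open Cfsg.Agent.BpSpor.MBigModel (MG)
open Cfsg.Agent.LThreeB.Row (TA)

namespace F24

/-- four commuting transpositions -/
noncomputable def d (i j : Fin 9) : Fi24 := Phi (swap i j)

theorem d_comm {i j k l : Fin 9} (h : swap i j * swap k l = swap k l * swap i j) : Commute (d i j) (d k l) := by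
  unfold d
  rw [Commute, SemiconjBy, ← map_mul, h, map_mul]

theorem d_ne {i j k l : Fin 9} (h : swap i j ≠ swap k l) : d i j ≠ d k l := fun e => h (Phi_injective e)

theorem tet : IsTet L (d 1 6 * d 2 5 * d 3 4 * d 7 8) (d 1 6) (d 2 5) (d 3 4) (d 7 8) where
  ha := Phi_swap_mem_L (by decide)
  hb := Phi_swap_mem_L (by decide)
  hc := Phi_swap_mem_L (by decide)
  hd := Phi_swap_mem_L (by decide)
  ab := d_comm (by decide)
  ac := d_comm (by decide)
  ad := d_comm (by decide)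
  bc := d_comm (by decide)
  bd := d_comm (by decide)
  cd := d_comm (by decide)
  nab := d_ne (by decide)
  nac := d_ne (by decide)
  nad := d_ne (by decide)
  nbc := d_ne (by decide)
  nbd := d_ne (by decide)
  ncd := d_ne (by decide)
  prod := rfl

/-- the class under `Fi24'` -/
def orb (w : Fi24) : Set Fi24 := {x | ∃ y ∈ commutator Fi24, y * w * y⁻¹ = x}

theorem orb_mul (w : Fi24) : (orb w).ncard * ct w = 1255205709190661721292800 := by
  have := finite_Fi24
  rw [← card_commutator, card_conj (commutator Fi24) w]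
  rfl

theorem mem_orb {w x g : Fi24} (hg : g ∈ commutator Fi24) (h : g * x * g⁻¹ = w) : x ∈ orb w :=
  ⟨g⁻¹, inv_mem hg, by rw [← h]; group⟩

theorem cases {x : Fi24} (hx : orderOf x = 2) : x ∈ L ∨ x ∈ orb (d 1 6 * d 2 5) ∨ x ∈ orb (d 1 6 * d 2 5 * d 3 4) ∨
    x ∈ orb (d 1 6 * d 2 5 * d 3 4 * d 7 8) := by
  by_cases hK : x ∈ commutator Fi24
  · rcases CTwoTab.FiTF.classes ⟨x, hK⟩ (by rw [Subgroup.orderOf_mk, hx]) with ⟨a, b, P, h1⟩ | ⟨g, hg⟩
    · obtain ⟨g, hg, e1, e2⟩ := trans2 P.ha P.hb tet.ha tet.hb P.ne P.ab tet.nab tet.ab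
      have h2 : x = a * b := h1
      exact Or.inr (Or.inl (mem_orb hg (by rw [h2, ← e1, ← e2]; group)))
    · have h := KFacts.FiTF.Tet.isTet (t := 0) (by norm_num)
      obtain ⟨k, hk, e1, e2, e3, e4⟩ := TetBig.quad TetBigInst.hyp h tet
      have h2 : x = g * KFacts.FiTF.Defs.z * (g : Fi24)⁻¹ := congrArg Subtype.val hg
      refine Or.inr (Or.inr (Or.inr (mem_orb (mul_mem hk (inv_mem g.2)) ?_)))
      rw [h2, ← h.prod, ← e1, ← e2, ← e3, ← e4]; group
  · rcases outer_cases hK (by rw [← pow_two, ← hx, pow_orderOf_eq_one]) with h | ⟨a, b, c, h, rfl⟩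
    · exact Or.inl h
    · obtain ⟨e, he, n1, n2, n3, c1, c2, c3⟩ := exists_four h
      have h1 : IsTet L (a * b * c * e) a b c e := ⟨h.ha, h.hb, h.hc, he, h.ab, h.ac, c1.symm, h.bc, c2.symm, c3.symm,
        h.nab, h.nac, n1.symm, h.nbc, n2.symm, n3.symm, rfl⟩
      obtain ⟨k, hk, e1, e2, e3, -⟩ := TetBig.quad TetBigInst.hyp h1 tet
      exact Or.inr (Or.inr (Or.inl (mem_orb hk (by rw [← e1, ← e2, ← e3]; group))))

theorem orb_two : (orb (d 1 6 * d 2 5)).ncard ≤ 4860485028 := by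
  have := finite_Fi24
  have h := tet
  generalize d 1 6 = a at h
  generalize d 2 5 = b at h
  have h0 := orb_mul (a * b)
  have h1 := card_conj (commutator Fi24 ⊓ centralizer ({a * b} : Set Fi24)) a
  have h2 : 129123503308800 ≤ Nat.card (commutator Fi24 ⊓ centralizer ({a * b} : Set Fi24) ⊓
      centralizer ({a} : Set Fi24) : Subgroup Fi24) := by
    rw [← ct_two h.ha h.hb h.nab h.ab]
    refine card_le_of_le fun x hx => ⟨⟨hx.1.1, mem_centralizer_singleton_iff.2 ?_⟩, hx.1.2⟩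
    exact (Commute.mul_right (mem_centralizer_singleton_iff.1 hx.1.2) (mem_centralizer_singleton_iff.1 hx.2)).eq
  have h3 : 2 ≤ ({x | ∃ y ∈ commutator Fi24 ⊓ centralizer ({a * b} : Set Fi24), y * a * y⁻¹ = x} : Set Fi24).ncard := by
    rw [← Set.ncard_pair h.nab]
    refine Set.ncard_le_ncard ?_ (Set.toFinite _)
    rintro x (rfl | rfl)
    · exact ⟨1, one_mem _, by group⟩
    · obtain ⟨g, hg, e1, e2⟩ := trans2 h.ha h.hb h.hb h.ha h.nab h.ab h.nab.symm h.ab.symm
      refine ⟨g, ⟨hg, mem_centralizer_singleton_iff.2 (mul_inv_eq_iff_eq_mul.1 ?_)⟩, e1⟩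
      calc g * (a * x) * g⁻¹ = (g * a * g⁻¹) * (g * x * g⁻¹) := by group
        _ = a * x := by rw [e1, e2, h.ab.eq]
  have h4 : 2 * 129123503308800 ≤ ct (a * b) := by
    unfold ct
    rw [h1]
    exact Nat.mul_le_mul h3 h2
  have h5 := Nat.mul_le_mul_left (orb (a * b)).ncard h4
  omega

theorem orb_three : (orb (d 1 6 * d 2 5 * d 3 4)).ncard ≤ 34120604896560 := by
  have := finite_Fi24
  have h := tet
  generalize d 1 6 = a at h
  generalize d 2 5 = b at h
  generalize d 3 4 = c at h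
  have h0 := orb_mul (a * b * c)
  have h4 : 36787322880 ≤ ct (a * b * c) := by
    rw [← ct_three ⟨h.ha, h.hb, h.hc, h.ab, h.ac, h.bc, h.nab, h.nac, h.nbc⟩]
    refine card_le_of_le fun x hx => ⟨hx.1.1.1, mem_centralizer_singleton_iff.2 ?_⟩
    exact ((Commute.mul_right (mem_centralizer_singleton_iff.1 hx.1.1.2)
      (mem_centralizer_singleton_iff.1 hx.1.2)).mul_right (mem_centralizer_singleton_iff.1 hx.2)).eq
  have h5 := Nat.mul_le_mul_left (orb (a * b * c)).ncard h4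
  omega

theorem orb_four : (orb (d 1 6 * d 2 5 * d 3 4 * d 7 8)).ncard ≤ 7819305288795 := by
  have h0 := orb_mul (d 1 6 * d 2 5 * d 3 4 * d 7 8)
  have h := KFacts.FiTF.Tet.isTet (t := 0) (by norm_num)
  obtain ⟨k, -, e1, e2, e3, e4⟩ := TetBig.quad TetBigInst.hyp h tet
  have h1 : d 1 6 * d 2 5 * d 3 4 * d 7 8 = k * KFacts.FiTF.Defs.z * k⁻¹ := by
    rw [← h.prod, ← e1, ← e2, ← e3, ← e4]; group
  have h2 : ct KFacts.FiTF.Defs.z = 160526499840 :=
    (H161.Rec.FiTF.card_cent_sub (commutator Fi24) CTwoTab.FiTF.z0).symm.trans H701.card_z0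
  have h3 : ct (d 1 6 * d 2 5 * d 3 4 * d 7 8) = 160526499840 := by rw [h1, ct_conj, h2]
  rw [h3] at h0
  omega

theorem not_ta (ψ : Fi24 →* MG) (hψ : Function.Injective ψ) {u c : Perm (Fin 9)} (h7 : (u * (c * u * c⁻¹)) ^ 7 = 1)
    (h1 : u * (c * u * c⁻¹) ≠ 1) {x : Fi24} (hx : x ∈ orb (Phi u)) : ¬ TA (ψ x) := by
  intro h
  obtain ⟨y, -, rfl⟩ := hx
  have h2 : TA (ψ (Phi u)) := by
    have := ta_conj h (ψ y)⁻¹
    rwa [map_mul, map_mul, map_inv, show (ψ y)⁻¹ * (ψ y * ψ (Phi u) * (ψ y)⁻¹) * (ψ y)⁻¹⁻¹ = ψ (Phi u) by group] at this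
  have h3 := ta_mul_order h2 (ta_conj h2 (ψ (Phi c)))
  have : Fact (Nat.Prime 7) := ⟨by norm_num⟩
  rw [← map_inv, ← map_inv, ← map_mul, ← map_mul, ← map_mul, ← map_mul, ← map_mul, ← map_mul, orderOf_injective ψ hψ,
    orderOf_injective Phi Phi_injective, orderOf_eq_prime h7 h1] at h3
  norm_num at h3

/-- a 7-cycle -/
def c7 : Perm (Fin 9) := swap 0 1 * swap 1 2 * swap 2 3 * swap 3 4 * swap 4 5 * swap 5 6

theorem false_of (ψ : Fi24 →* MG) (hψ : Function.Injective ψ) {B : Subgroup MG} (h : IsPair ψ.range B)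
    (h2 : 2 ∣ B.relIndex ψ.range) : False := by
  have := finite_Fi24
  have e3 : d 1 6 * d 2 5 * d 3 4 = Phi (swap 1 6 * swap 2 5 * swap 3 4) := by simp only [d, map_mul]
  have e4 : d 1 6 * d 2 5 * d 3 4 * d 7 8 = Phi (swap 1 6 * swap 2 5 * swap 3 4 * swap 7 8) := by simp only [d, map_mul]
  have ha : {x | x ∈ ψ.range ∧ TA x}.ncard ≤ 306936 + 4860485028 := by
    refine le_trans (Set.ncard_le_ncard (t := ψ '' (L ∪ orb (d 1 6 * d 2 5))) ?_ (Set.toFinite _))
      ((Set.ncard_image_le (Set.toFinite _)).trans ((Set.ncard_union_le _ _).trans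
        (Nat.add_le_add ncard_L.le orb_two)))
    rintro _ ⟨⟨y, rfl⟩, hy⟩
    refine ⟨y, ?_, rfl⟩
    rcases cases (x := y) (by rw [← orderOf_injective ψ hψ, ta_order hy]) with k | k | k | k
    · exact Or.inl k
    · exact Or.inr k
    · rw [e3] at k
      exact absurd hy (not_ta ψ hψ (c := c7) (by decide) (by decide) k)
    · rw [e4] at k
      exact absurd hy (not_ta ψ hψ (c := c7) (by decide) (by decide) k)
  have hb : {x | x ∈ ψ.range ∧ orderOf x = 2 ∧ ¬ TA x}.ncard ≤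
      306936 + (4860485028 + (34120604896560 + 7819305288795)) := by
    refine le_trans (Set.ncard_le_ncard (t := ψ '' (L ∪ (orb (d 1 6 * d 2 5) ∪ (orb (d 1 6 * d 2 5 * d 3 4) ∪
      orb (d 1 6 * d 2 5 * d 3 4 * d 7 8))))) ?_ (Set.toFinite _))
      ((Set.ncard_image_le (Set.toFinite _)).trans ((Set.ncard_union_le _ _).trans
        (Nat.add_le_add ncard_L.le ((Set.ncard_union_le _ _).trans (Nat.add_le_add orb_two
          ((Set.ncard_union_le _ _).trans (Nat.add_le_add orb_three orb_four)))))))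
    rintro _ ⟨⟨y, rfl⟩, hy, -⟩
    exact ⟨y, cases (x := y) (by rw [← orderOf_injective ψ hψ, hy]), rfl⟩
  have h3 := two_le h h2 ha hb
  revert h3
  unfold NM cA cB
  norm_num

end F24

/-- **No pair on `Fi₂₄`.** -/
theorem noFi24 : NoFi24 := by
  intro A S h h2 ⟨e⟩ hc
  have := BpSpor.MBigModel.finite
  have := h.2.2.1
  obtain ⟨f⟩ := H816.Fin24.iso_of_index_two (S.subgroupOf A) (by
    rw [eq_bot_iff]
    intro a ha
    exact Subtype.ext (hc a a.2 fun s hs => congrArg Subtype.val (ha ⟨s, h.le hs⟩ hs).symm)) h2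
    ((subgroupOfEquivOfLe h.le).trans e)
  have hr : (A.subtype.comp f.symm.toMonoidHom).range = A := by
    rw [MonoidHom.range_comp, MonoidHom.range_eq_top.2 f.symm.surjective, ← MonoidHom.range_eq_map, range_subtype]
  exact F24.false_of (A.subtype.comp f.symm.toMonoidHom) (A.subtype_injective.comp f.symm.injective)
    (hr.symm ▸ h) (by rw [hr, h2])

end Cfsg.Agent.SP.Mon.NL
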