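import Cfsg.Agent.SP.Mon.NL.Pass
import Cfsg.Agent.SP.Mon.Iface

/-! # S5755, the Monster: pairs are large (box `U`) -/

set_option autoImplicit false
set_option maxRecDepth 100000
set_option linter.style.haveILetI false

namespace Cfsg.Agent.SP.Mon.NL

open Cfsg.Agent.BpSpor.MBigModel (MG)
open Cfsg.Agent.LThreeB.Row (TA)
open Cfsg.Agent.H995.CopEngine (AllKnown)

theorem allKnown (B : H940.Eng.Base) : AllKnown.{0} := fun S _ _ h => B.known S h

/-- **The number of `2A`-involutions of a subgroup** `X` of order at most `n` with at most `b` involutions of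
class `2B` and at most `m` elements of order 3. -/
theorem a_sq_sub (X : Subgroup MG) {n b m : ℕ} (hn : Nat.card X ≤ n)
    (hb : {x | x ∈ X ∧ orderOf x = 2 ∧ ¬ TA x}.ncard ≤ b) (hm : {x | x ∈ X ∧ orderOf x = 3}.ncard ≤ m) :
    {x | x ∈ X ∧ TA x}.ncard ≤ 16 * 10 ^ 8 ∨
      94 * {x | x ∈ X ∧ TA x}.ncard ^ 2 ≤ 100 * (196560 * b + 920808 * m + 2208 * n) :=
  a_sq (Y := {x | x ∈ X ∧ TA x}) (Z := X) (fun _ hy => hy.2) (fun _ hu _ hv => X.mul_mem hu.1 hv.1) hb
    ((np_three (Z := {x | x ∈ X ∧ orderOf x = 3}) (fun _ hy => hy.2)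
      fun _ hu _ hv h3 => ⟨X.mul_mem hu.1 hv.1, h3⟩).trans (Nat.mul_le_mul_left _ hm))
    (by rw [← Nat.card_coe_set_eq, SetLike.coe_sort_coe]; exact hn)

theorem boxU' (hK : AllKnown.{0}) {A B : Subgroup MG} (h : IsPair A B) : 56 * 10 ^ 12 < Nat.card A := by
  have := BpSpor.MBigModel.finite
  by_contra hc
  have hle : Nat.card A ≤ 56 * 10 ^ 12 := not_lt.1 hc
  obtain ⟨B', -, h'⟩ := h.exists_max
  rcases NegS.two_or_odd h' with h2 | ⟨r, hr, h2, hd⟩
  · have h1 := two_le h'.pair (by rw [h2]) le_rfl le_rfl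
    have hb : {x | x ∈ A ∧ orderOf x = 2 ∧ ¬ TA x}.ncard ≤ 56 * 10 ^ 12 :=
      (ncard_le_card_subgroup fun _ hx => hx.1).trans hle
    have hm : {x | x ∈ A ∧ orderOf x = 3}.ncard ≤ 28 * 10 ^ 12 := by
      have h3 := NegS.card_mul_relIndex h'.pair.le
      have h4 : {x | x ∈ A ∧ orderOf x = 3}.ncard ≤ Nat.card B' :=
        ncard_le_card_subgroup fun _ hx => mem_of_two h2 hx.1 hx.2
      rw [h2] at h3
      omega
    have h4 := a_sq_sub A hle hb hm
    have h5 := Nat.pow_le_pow_left hb 2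
    generalize {x | x ∈ A ∧ orderOf x = 2 ∧ ¬ TA x}.ncard ^ 2 = b at h1 h5
    rcases h4 with h4 | h4
    · have h6 := Nat.pow_le_pow_left h4 2
      generalize {x | x ∈ A ∧ TA x}.ncard ^ 2 = a at h1 h6
      unfold NM cA cB at h1
      omega
    · generalize {x | x ∈ A ∧ TA x}.ncard ^ 2 = a at h1 h4
      unfold NM cA cB at h1
      omega
  · exact false_of_passOdd hK h'.pair hr h2 hd hle (dvd_zero _) (by decide +kernel)

/-- **Box `U`.** -/
theorem boxU (B : H940.Eng.Base) : BoxU := fun _ _ h => lt_trans (by norm_num) (boxU' (allKnown B) h)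

end Cfsg.Agent.SP.Mon.NL
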