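import Cfsg.Agent.TwoESix.LeviF
import Cfsg.Agent.TwoESix.LongCard

/-! # S5755, the Monster: the parabolic subgroup `2 ^ (1 + 20) : U₆(2)` of `²E₆(2)` -/

set_option autoImplicit false
set_option maxRecDepth 100000
set_option linter.style.haveILetI false

namespace Cfsg.Agent.SP.Mon.NL

open Cfsg Cfsg.Lie
open Cfsg.Agent.ChevalleyStructure
open Cfsg.Agent.ChevalleyStructure.Elts hiding x_add x_zero x_eq_one_iff
open Cfsg.Agent.ChevalleyStructure.TwE6Basic
open Cfsg.Agent.TwoESix Cfsg.Agent.TwoESix.LeviA Cfsg.Agent.TwoESix.LeviB Cfsg.Agent.TwoESix.LeviC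
open Cfsg.Agent.TwoESix.LeviF

/-- the facts on the centraliser of a root involution -/
structure ParE (P : Type*) [Group P] (z : P) (R : Subgroup P) : Prop where
  card : Nat.card P = 93555 * (3 * 2 ^ 36)
  cardR : Nat.card R = 2 ^ 21
  z_ne : z ≠ 1
  z_sq : z * z = 1
  z_cent : ∀ g, g * z = z * g
  z_mem : z ∈ R
  sq : ∀ r ∈ R, r * r = 1 ∨ r * r = z
  normal : R.Normal
  max : ∀ N : Subgroup P, N.Normal → IsPGroup 2 N → N ≤ R

theorem sq_of_gen {G : Type*} [Group G] (U Z : Subgroup G) (S : Set G)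
    (ind : ∀ M : Subgroup G, (∀ a ∈ S, a ∈ M) → U ≤ M) (hS : ∀ a ∈ S, a ∈ U)
    (hZ : ∀ g ∈ U, ∀ c ∈ Z, g * c = c * g) (h1 : ∀ a ∈ S, ∀ b ∈ S, ∃ c ∈ Z, a * b = b * a * c)
    (h2 : ∀ a ∈ S, a * a ∈ Z) : ∀ g ∈ U, g * g ∈ Z := by
  let Mc : G → Subgroup G := fun h =>
    { carrier := {g | g ∈ U ∧ ∃ c ∈ Z, g * h = h * g * c}
      one_mem' := ⟨one_mem _, 1, one_mem _, by group⟩
      mul_mem' := by
        rintro a b ⟨ha, c, hc, e⟩ ⟨hb, d, hd, f⟩
        refine ⟨mul_mem ha hb, c * d, mul_mem hc hd, ?_⟩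
        calc a * b * h = (a * h) * b * d := by rw [mul_assoc a b, f]; group
          _ = h * a * (c * b) * d := by rw [e]; group
          _ = _ := by rw [← hZ b hb c hc]; group
      inv_mem' := by
        rintro a ⟨ha, c, hc, e⟩
        refine ⟨inv_mem ha, c⁻¹, inv_mem hc, ?_⟩
        calc a⁻¹ * h = a⁻¹ * (h * a * c) * c⁻¹ * a⁻¹ := by group
          _ = h * (c⁻¹ * a⁻¹) := by rw [← e]; group
          _ = _ := by rw [← hZ a⁻¹ (inv_mem ha) c⁻¹ (inv_mem hc)]; group }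
  have k1 : ∀ b ∈ S, U ≤ Mc b := fun b hb => ind _ fun a ha => ⟨hS a ha, h1 a ha b hb⟩
  have k2 : ∀ g ∈ U, U ≤ Mc g := fun g hg => ind _ fun b hb => by
    obtain ⟨-, c, hc, e⟩ := k1 b hb hg
    exact ⟨hS b hb, c⁻¹, inv_mem hc, by rw [e]; group⟩
  let Ms : Subgroup G :=
    { carrier := {g | g ∈ U ∧ g * g ∈ Z}
      one_mem' := ⟨one_mem _, by rw [mul_one]; exact one_mem _⟩
      mul_mem' := by
        rintro a b ⟨ha, e⟩ ⟨hb, f⟩
        obtain ⟨-, c, hc, k⟩ := k2 a ha hb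
        refine ⟨mul_mem ha hb, ?_⟩
        have e1 : a * b * (a * b) = (a * a) * (b * b) * c := by
          calc a * b * (a * b) = a * (b * a) * b := by group
            _ = a * a * b * (c * b) := by rw [k]; group
            _ = _ := by rw [← hZ b hb c hc]; group
        rw [e1]
        exact mul_mem (mul_mem e f) hc
      inv_mem' := by
        rintro a ⟨ha, e⟩
        refine ⟨inv_mem ha, ?_⟩
        rw [← mul_inv_rev]
        exact inv_mem e }
  exact fun g hg => (ind Ms (fun a ha => ⟨hS a ha, h2 a ha⟩) hg).2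

theorem ur_tab : ∀ r s : Fin 72, 36 ≤ r.val → ¬ chevE6.InRootSub {j | j ∈ Jn} r.val → 36 ≤ s.val →
    ¬ chevE6.InRootSub {j | j ∈ Jn} s.val → s.val = r.val ∨ (s.val ≠ chevE6.neg r.val ∧
      (chevE6.commTerms r.val s.val = [] ∨ chevE6.commTerms r.val s.val = [(71, 1, 1, 1)] ∨
        chevE6.commTerms r.val s.val = [(71, -1, 1, 1)])) := by decide +kernel

theorem ur_sq {K : Type} [Field K] [CharP K 2] {g : GL chevE6.Idx K} (hg : g ∈ UR K Jn) :
    g * g ∈ chevE6.rootSubgroup K 71 := by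
  refine sq_of_gen (UR K Jn) (chevE6.rootSubgroup K 71)
    {a | ∃ r : Fin 72, 36 ≤ r.val ∧ ¬ chevE6.InRootSub {j | j ∈ Jn} r.val ∧ ∃ t : K, a = x r.val t}
    (fun M h => UR_le fun r hr hr' t => h _ ⟨r, hr, hr', t, rfl⟩) ?_ ?_ ?_ ?_ g hg
  · rintro _ ⟨r, hr, hr', t, rfl⟩
    exact x_mem_UR hr hr' t
  · intro g hg c hc
    obtain ⟨t, rfl⟩ := mem_X.1 hc
    exact U_comm_top (UR_le_U hg) t
  · rintro _ ⟨s, hs, hs', u, rfl⟩ _ ⟨r, hr, hr', t, rfl⟩
    by_cases e : s.val = r.val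
    · exact ⟨1, one_mem _, by rw [e, x_add, x_add, add_comm, mul_one]⟩
    · rcases (ur_tab r s hr hr' hs hs').resolve_left e with ⟨h1, h2 | h2 | h2⟩
      · exact ⟨1, one_mem _, by rw [mul_one]; exact comm_of_commTerms r.isLt s.isLt e h1 h2 t u⟩
      · exact ⟨_, mem_X.2 ⟨_, rfl⟩, comm_single r.isLt s.isLt e h1 (Or.inl rfl) h2 t u⟩
      · exact ⟨_, mem_X.2 ⟨_, rfl⟩, comm_single r.isLt s.isLt e h1 (Or.inr rfl) h2 t u⟩
  · rintro _ ⟨r, -, -, t, rfl⟩
    rw [x_add, CharTwo.add_self_eq_zero, x_zero]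
    exact one_mem _

/-- **The centraliser of a root involution.** -/
theorem parE {K : Type} [Field K] [Fintype K] {φ : K →+* K} (F : Four K φ) :
    ParE ↥(Subgroup.centralizer ({r0 F} : Set ↥(twistedE6 K 2)))
      ⟨r0 F, Subgroup.mem_centralizer_singleton_iff.2 rfl⟩ (lvHom F).ker := by
  have := F.charP
  have hc : Nat.card ↥(Subgroup.centralizer ({r0 F} : Set ↥(twistedE6 K 2))) = 93555 * (3 * 2 ^ 36) :=
    LongCard.card_cent F
  have hL : Nat.card ↥(LL K) = 9196830720 := LongCard.card_levi F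
  have hs : Function.Surjective (lvHom F) := fun l => by
    obtain ⟨g, -, h⟩ := exists_of_LL F l
    exact ⟨g, h⟩
  refine ⟨hc, ?_, fun e => r0_ne F (congrArg Subtype.val e), Subtype.ext (r0_sq F),
    fun g => Subtype.ext (Subgroup.mem_centralizer_singleton_iff.1 g.2),
    Subtype.ext (lv_of_UR (x_mem_UR (r := 71) (by decide) (by decide +kernel) 1)), fun g hg => ?_,
    inferInstance, fun N hN h2 => ?_⟩
  · have h1 := (lvHom F).ker.card_mul_index
    rw [Subgroup.index_ker, MonoidHom.range_eq_top.2 hs, Subgroup.card_top, hL, hc] at h1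
    omega
  · have h1 : ((g : ↥(twistedE6 K 2)) : GL chevE6.Idx K) ∈ UR K Jn :=
      mem_UR_of_lv (mem_PR_of_cent F g) (congrArg Subtype.val hg)
    obtain ⟨t, ht⟩ := mem_X.1 (ur_sq h1)
    by_cases h0 : t = 0
    · rw [h0, x_zero] at ht
      exact Or.inl (Subtype.ext (Subtype.ext ht))
    · have h2 : t = 1 := eq_one_of_mem F (r := 71) (by decide +kernel) h0 (by
        show x 71 t ∈ twistedE6 K 2
        rw [← ht]
        exact mul_mem g.1.2 g.1.2)
      rw [h2] at ht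
      exact Or.inr (Subtype.ext (Subtype.ext ht))
  · have := (LeviD.simple_LL F).1
    rcases (hN.map (lvHom F) hs).eq_bot_or_eq_top with h | h
    · exact (Subgroup.map_eq_bot_iff _).1 h
    · exfalso
      have : Fact (Nat.Prime 2) := ⟨Nat.prime_two⟩
      have h3 := h2.map (lvHom F)
      rw [h] at h3
      have hfin : Finite ↥(LL K) := Nat.finite_of_card_ne_zero (by rw [hL]; norm_num)
      obtain ⟨n, hn⟩ := IsPGroup.iff_card.1 h3
      rw [Subgroup.card_top, hL] at hn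
      have h4 : 3 ∣ 2 ^ n := hn ▸ by norm_num
      exact absurd (Nat.prime_three.dvd_of_dvd_pow h4) (by norm_num)

end Cfsg.Agent.SP.Mon.NL
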