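import Cfsg.Agent.SP.Mon.NL.Fi24
import Cfsg.Agent.SP.Mon.NL.ParE
import Cfsg.Agent.H979.OddB
import Cfsg.Agent.H332.BabyUpper
import Cfsg.Agent.H819.LiftDual

/-! # S5755, the Monster: `²E₆(2)` is not a subgroup; box `NL`

The centraliser `2 ^ (1 + 20) : U₆(2)` of a root involution embeds neither in `2.B` (2-rank of `B`) nor in
`2 ^ (1 + 24).Co₁` over the central involution. -/

set_option autoImplicit false
set_option maxRecDepth 100000
set_option linter.style.haveILetI false

namespace Cfsg.Agent.SP.Mon.NL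

open Subgroup Cfsg
open Cfsg.Agent.MonsterU Cfsg.Agent.MonsterU.Lam2
open Cfsg.Agent.BpSpor.MBigModel (MG zz pi chart cls)
open Cfsg.Agent.LThreeB.Row (TA)
open Cfsg.Agent.H995.CopEngine (AllKnown)
open Cfsg.Agent.H819.LiftDual (bfL)
open Cfsg.Spor (Co1)

namespace TE

variable {P : Type*} [Group P] {z : P} {R : Subgroup P}

theorem caseA (h : ParE P z R) (ι : P →* MG) (hι : Function.Injective ι) (hz : TA (ι z)) : False := by
  have := BpSpor.MBigModel.finite
  obtain ⟨t, ht, h2, ⟨e⟩⟩ := H979.OddB.exists_cover (L := Spor.BabyMonster) ⟨MulEquiv.refl _⟩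
  obtain ⟨g, hg⟩ := isConj_iff.1 ((show IsConj _ (ι z) from hz).symm.trans (show IsConj _ t from ht))
  let κ : P →* centralizer ({t} : Set MG) := ((MulAut.conj g).toMonoidHom.comp ι).codRestrict _ fun p => by
    rw [mem_centralizer_singleton_iff, ← hg]
    show g * ι p * g⁻¹ * (g * ι z * g⁻¹) = g * ι z * g⁻¹ * (g * ι p * g⁻¹)
    calc g * ι p * g⁻¹ * (g * ι z * g⁻¹) = g * ι (p * z) * g⁻¹ := by rw [map_mul]; group
      _ = _ := by rw [h.z_cent, map_mul]; group
  have hκ : Function.Injective κ := fun a b e' => hι ((MulAut.conj g).injective (congrArg Subtype.val e'))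
  have hzc : κ z ∈ center (centralizer ({t} : Set MG)) := by
    rw [mem_center_iff]
    intro c
    refine Subtype.ext ?_
    show (c : MG) * (g * ι z * g⁻¹) = g * ι z * g⁻¹ * c
    rw [hg]
    exact mem_centralizer_singleton_iff.1 c.2
  let f : R →* Spor.BabyMonster := e.toMonoidHom.comp ((QuotientGroup.mk' _).comp (κ.comp R.subtype))
  have hf : ∀ r : R, f r = 1 ↔ κ r ∈ center (centralizer ({t} : Set MG)) := fun r => by
    show e (QuotientGroup.mk' _ (κ r)) = 1 ↔ _
    rw [map_eq_one_iff e e.injective, ← MonoidHom.mem_ker, QuotientGroup.ker_mk']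
  have hsq : ∀ a ∈ f.range, a * a = 1 := by
    rintro _ ⟨r, rfl⟩
    rw [← map_mul, hf]
    show κ ((r : P) * r) ∈ _
    rcases h.sq r r.2 with k | k <;> rw [k]
    · rw [map_one]; exact one_mem _
    · exact hzc
  have h1 := H332.BabyUpper.baby_le f.range ⟨⟨fun a b => Subtype.ext (by
    have k1 := hsq _ (mul_mem a.2 b.2)
    show (a : Spor.BabyMonster) * b = b * a
    rw [eq_inv_of_mul_eq_one_left k1, mul_inv_rev, inv_eq_of_mul_eq_one_left (hsq _ a.2),
      inv_eq_of_mul_eq_one_left (hsq _ b.2)])⟩⟩ fun a ha => by rw [pow_two, hsq a ha]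
  have h3 : Nat.card f.ker ≤ 2 := by
    rw [← h2]
    exact Nat.card_le_card_of_injective (fun r : f.ker => (⟨κ r.1, (hf _).1 r.2⟩ : center (centralizer ({t} : Set MG))))
      fun a b e' => Subtype.ext (Subtype.ext (hκ (congrArg Subtype.val e')))
  have h4 := f.ker.card_mul_index
  rw [index_ker, h.cardR] at h4
  have h5 := Nat.mul_le_mul h3 h1
  omega

theorem perp_facts (U : Submodule (ZMod 2) L2) (hU : Nat.card U = 2 ^ 20) :
    ∃ W : Set L2, W.ncard = 16 ∧ (∀ v, v ∈ W ↔ ∀ u ∈ U, bf u v = 0) ∧ ((∀ v ∈ W, qf v = 0) → ∀ v ∈ W, v ∈ U) := by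
  have hr : LinearMap.BilinForm.IsRefl (R := ZMod 2) (M := L2) bfL := fun x y k => (bf_comm y x).trans k
  have hn : LinearMap.BilinForm.Nondegenerate (R := ZMod 2) (M := L2) bfL :=
    ⟨fun x k => bf_nondeg k, fun x k => bf_nondeg fun y => (bf_comm x y).trans (k y)⟩
  have h1 : Module.finrank (ZMod 2) L2 = 24 := by
    have k := Module.natCard_eq_pow_finrank (K := ZMod 2) (V := L2)
    rw [card_L2, Nat.card_zmod] at k
    exact (Nat.pow_right_injective le_rfl k).symm
  have h2 : Module.finrank (ZMod 2) U = 20 := by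
    have k := Module.natCard_eq_pow_finrank (K := ZMod 2) (V := U)
    rw [hU, Nat.card_zmod] at k
    exact (Nat.pow_right_injective le_rfl k).symm
  have h3 := LinearMap.BilinForm.finrank_orthogonal hn U
  refine ⟨LinearMap.BilinForm.orthogonal (R := ZMod 2) (M := L2) bfL U, ?_, fun v => Iff.rfl, fun k v hv => ?_⟩
  · have k := Module.natCard_eq_pow_finrank (K := ZMod 2)
      (V := LinearMap.BilinForm.orthogonal (R := ZMod 2) (M := L2) bfL U)
    rw [h3, h1, h2, Nat.card_zmod] at k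
    exact (Nat.card_coe_set_eq _).symm.trans k
  · rw [← LinearMap.BilinForm.orthogonal_orthogonal hn hr U]
    intro w hw
    show bf w v = 0
    unfold bf
    rw [k _ (add_mem hw hv), k _ hw, k _ hv, add_zero, add_zero]

theorem fix_pt {H : Subgroup Co1} {g : Co1} (hH : g ∈ H) (hg : g ^ 11 = 1) {W : Set L2} (hW : W.ncard = 16)
    (h0 : 0 ∈ W) (hs : ∀ c ∈ H, ∀ v ∈ W, c • v ∈ W) : ∃ v ∈ W, v ≠ 0 ∧ g • v = v := by
  have : Fact (Nat.Prime 11) := ⟨by norm_num⟩
  let S : SubMulAction (zpowers g) L2 := ⟨W \ {0}, fun c v hv => ⟨hs c (zpowers_le.2 hH c.2) v hv.1, fun k => hv.2 (by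
    have k1 : (c : Co1) • v = 0 := k
    exact (smul_eq_zero_iff_eq _).1 k1)⟩⟩
  have hp : IsPGroup 11 (zpowers g) := by
    rintro ⟨_, n, rfl⟩
    refine ⟨1, Subtype.ext ?_⟩
    show (g ^ n) ^ 11 ^ 1 = 1
    rw [pow_one, ← zpow_natCast, ← zpow_mul, mul_comm, zpow_mul, zpow_natCast, hg, one_zpow]
  have hc : Nat.card S = 15 := by
    have k := Set.ncard_sdiff_singleton_add_one h0 (Set.toFinite W)
    have k2 : Nat.card S = (W \ {0}).ncard := Nat.card_coe_set_eq (W \ {0})
    omega
  obtain ⟨v, hv⟩ := hp.nonempty_fixed_point_of_prime_not_dvd_card S (by rw [hc]; norm_num)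
  exact ⟨v.1, v.2.1, v.2.2, congrArg Subtype.val (hv ⟨g, mem_zpowers g⟩)⟩

theorem caseB (hK : AllKnown.{0}) (h : ParE P z R) (ι : P →* MG) (hι : Function.Injective ι) (hz : ι z = zz) :
    False := by
  have := BpSpor.MBigModel.finite
  have := BpSpor.MBigCo.finite_co1
  have hfin : Finite P := Finite.of_injective ι hι
  have : Fact (Nat.Prime 2) := ⟨Nat.prime_two⟩
  have : Fact (Nat.Prime 11) := ⟨by norm_num⟩
  have := h.normal
  let κ : P →* centralizer ({zz} : Set MG) := ι.codRestrict _ fun p => by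
    rw [mem_centralizer_singleton_iff, ← hz, ← map_mul, h.z_cent, map_mul]
  let ρ : P →* Co1 := pi.comp κ
  have hρ : ∀ p, ρ p = 1 ↔ ι p ∈ QQ := fun p => chart.pi_eq_one (κ p)
  have hNR : ρ.ker ≤ R := h.max _ inferInstance ((IsPGroup.of_card chart.card_Q).of_injective
    ((ι.comp ρ.ker.subtype).codRestrict QQ fun p => (hρ _).1 p.2) fun a b e =>
      Subtype.ext (hι (congrArg Subtype.val e)))
  obtain ⟨x, hx⟩ := exists_prime_orderOf_dvd_card' (G := P) 11 (by rw [h.card]; norm_num)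
  have hx11 : x ^ 11 ^ 1 = 1 := by rw [pow_one, ← hx, pow_orderOf_eq_one]
  have hCR : Nat.card (R ⊓ centralizer ({x} : Set P) : Subgroup P) = 2 := by
    have k1 := NegS.card_cent_modEq (N := R) (by norm_num) hx11 (by rw [normalizer_eq_top]; trivial)
    have k2 : Nat.card (R ⊓ centralizer ({x} : Set P) : Subgroup P) ∣ 2 ^ 21 := h.cardR ▸ card_dvd_of_le inf_le_left
    have k3 : Nat.card (R ⊓ centralizer ({x} : Set P) : Subgroup P) ∣ Nat.card (centralizer ({ι x} : Set MG)) :=
      card_dvd_of_injective ((ι.comp (Subgroup.subtype _)).codRestrict _ fun p => by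
        rw [mem_centralizer_singleton_iff]
        show ι p * ι x = ι x * ι p
        rw [← map_mul, mem_centralizer_singleton_iff.1 p.2.2, map_mul]) fun a b e =>
          Subtype.ext (hι (congrArg Subtype.val e))
    have k4 := cent_exact hK (p := 11) (by norm_num) le_rfl (x := ι x) (by rw [orderOf_injective ι hι, hx])
    simp only [List.mem_cons, Prod.mk.injEq, List.not_mem_nil, or_false] at k4
    have k5 : Nat.card (centralizer ({ι x} : Set MG)) = 11 * 95040 := by omega
    obtain ⟨a, ha, k6⟩ := (Nat.dvd_prime_pow Nat.prime_two).1 k2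
    rw [k6, h.cardR] at k1
    rw [k6, k5] at k3
    rw [k6]
    interval_cases a <;> first | rfl | exact absurd k1 (by decide) | exact absurd k3 (by decide)
  have hzC : z ∈ R ⊓ centralizer ({x} : Set P) := ⟨h.z_mem, mem_centralizer_singleton_iff.2 (h.z_cent x).symm⟩
  have hcx : ∀ r ∈ R, r * x = x * r → r = 1 ∨ r = z := by
    intro r hr k
    obtain ⟨y, -, hy⟩ := (Nat.card_eq_two_iff' (1 : (R ⊓ centralizer ({x} : Set P) : Subgroup P))).1 hCR
    by_cases k1 : r = 1
    · exact Or.inl k1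
    · exact Or.inr (congrArg Subtype.val ((hy ⟨r, hr, mem_centralizer_singleton_iff.2 k⟩ fun e =>
        k1 (congrArg Subtype.val e)).trans (hy ⟨z, hzC⟩ fun e => h.z_ne (congrArg Subtype.val e)).symm))
  have hzN : z ∈ ρ.ker := (hρ z).2 (hz ▸ chart.large.z_mem)
  have hN : ρ.ker = R := by
    have k1 := NegS.card_cent_modEq (N := ρ.ker) (by norm_num) hx11 (by rw [normalizer_eq_top]; trivial)
    have k2 : ρ.ker ⊓ centralizer ({x} : Set P) = R ⊓ centralizer ({x} : Set P) :=
      le_antisymm (inf_le_inf_right _ hNR) fun r hr => ⟨by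
        rcases hcx r hr.1 (mem_centralizer_singleton_iff.1 hr.2) with rfl | rfl
        · exact one_mem _
        · exact hzN, hr.2⟩
    obtain ⟨b, hb, k3⟩ := (Nat.dvd_prime_pow Nat.prime_two).1 (h.cardR ▸ card_dvd_of_le hNR)
    have k4 := ρ.ker.card_mul_index
    rw [index_ker, h.card, k3] at k4
    have k5 : 93555 * (3 * 2 ^ 36) ∣ 2 ^ b * 4157776806543360000 := by
      rw [← k4, ← BpSpor.MBigCo.card_co1]
      exact Nat.mul_dvd_mul_left _ (card_subgroup_dvd_card _)
    rw [k2, hCR, k3] at k1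
    refine eq_of_le_of_card_ge hNR ?_
    rw [h.cardR, k3]
    interval_cases b <;> first | exact le_rfl | exact absurd k1 (by decide) | exact absurd k5 (by decide)
  have hQ : ∀ r ∈ R, ι r ∈ QQ := fun r hr => (hρ r).1 (hN.ge hr)
  let f : R →* Multiplicative L2 := MonoidHom.mk' (fun r => Multiplicative.ofAdd (eta (ι r))) fun a b => by
    rw [← ofAdd_add, ← chart.eta_mul _ (hQ _ a.2) _ (hQ _ b.2), ← map_mul]
    rfl
  have hf0 : ∀ r ∈ R, eta (ι r) = 0 ↔ r = 1 ∨ r = z := fun r hr => by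
    rw [chart.eta_zero _ (hQ r hr), ← hz, ← map_one ι, hι.eq_iff, hι.eq_iff]
  have hker : f.ker = (R ⊓ centralizer ({x} : Set P)).subgroupOf R := by
    ext r
    rw [mem_subgroupOf]
    refine (hf0 r r.2).trans ⟨?_, fun k => hcx r r.2 (mem_centralizer_singleton_iff.1 k.2)⟩
    rintro (k | k) <;> rw [k]
    · exact one_mem _
    · exact hzC
  let U : Submodule (ZMod 2) L2 := AddSubgroup.toZModSubmodule 2 (Subgroup.toAddSubgroup' f.range)
  have hU : ∀ v, v ∈ U ↔ ∃ r ∈ R, eta (ι r) = v := fun v =>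
    ⟨fun ⟨r, k⟩ => ⟨r, r.2, k⟩, fun ⟨r, hr, k⟩ => ⟨⟨r, hr⟩, k⟩⟩
  have hcU : Nat.card U = 2 ^ 20 := by
    have k := f.ker.card_mul_index
    rw [index_ker, h.cardR, hker, Nat.card_congr (subgroupOfEquivOfLe inf_le_left).toEquiv, hCR] at k
    have k2 : Nat.card U = Nat.card f.range := rfl
    omega
  have hconj : ∀ p, ∀ r ∈ R, ρ p • eta (ι r) = eta (ι (p * r * p⁻¹)) := fun p r hr => by
    rw [map_mul, map_mul, map_inv]
    exact (chart.eta_conj (κ p) _ (hQ r hr)).symm
  obtain ⟨W, hW, hm, hq⟩ := perp_facts U hcU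
  have hs : ∀ c ∈ ρ.range, ∀ v ∈ W, c • v ∈ W := by
    rintro _ ⟨p, rfl⟩ v hv
    rw [hm] at hv ⊢
    intro u hu
    obtain ⟨r, hr, rfl⟩ := (hU u).1 hu
    rw [← bf_smul1 (ρ p⁻¹), smul_smul, ← map_mul, inv_mul_cancel, map_one, one_smul, hconj _ r hr]
    exact hv _ ((hU _).2 ⟨_, h.normal.conj_mem r hr _, rfl⟩)
  by_cases hall : ∀ v ∈ W, qf v = 0
  · obtain ⟨v, hv, h0, hfix⟩ := fix_pt (H := ρ.range) (g := ρ x) ⟨x, rfl⟩
      (by rw [← map_pow, ← hx, pow_orderOf_eq_one, map_one]) hW ((hm 0).2 fun u _ => bf_zero_right u) hs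
    obtain ⟨r, hr, rfl⟩ := (hU v).1 (hq hall v hv)
    refine h0 ((hf0 r hr).2 (hcx r hr ?_))
    rw [hconj x r hr, chart.eta_eq (hQ _ (h.normal.conj_mem r hr x)) (hQ r hr), ← hz, ← map_mul, hι.eq_iff,
      hι.eq_iff] at hfix
    rcases hfix with k | k
    · exact (mul_inv_eq_iff_eq_mul.1 k).symm
    · have k1 : Commute r (x * x) := by
        have k2 : x * x * r * (x * x)⁻¹ = r := by
          calc x * x * r * (x * x)⁻¹ = x * (x * r * x⁻¹) * x⁻¹ := by group
            _ = x * (r * z) * x⁻¹ := by rw [k]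
            _ = x * r * x⁻¹ * (x * z * x⁻¹) := by group
            _ = r * (z * z) := by rw [k, h.z_cent x]; group
            _ = r := by rw [h.z_sq, mul_one]
        exact (mul_inv_eq_iff_eq_mul.1 k2).symm
      have k3 : x = (x * x) ^ 6 := by
        rw [← pow_two, ← pow_mul, show 2 * 6 = 11 ^ 1 + 1 by norm_num, pow_succ, hx11, one_mul]
      rw [k3]
      exact (k1.pow_right 6).eq
  · push Not at hall
    obtain ⟨v, hv, h1⟩ := hall
    have h3 : IsType 3 v := by
      rcases type_cases v with k | k | k | k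
      · exact absurd (by rw [k, qf_zero]) h1
      · exact absurd (by rw [Ch.qf_of_type k]; rfl) h1
      · exact k
      · exact absurd (by rw [Ch.qf_of_type k]; rfl) h1
    letI : MulAction P L2 := MulAction.compHom L2 ρ
    have k1 : (MulAction.stabilizer P v).index ≤ 16 := by
      rw [MulAction.index_stabilizer, ← hW]
      refine Set.ncard_le_ncard ?_ (Set.toFinite _)
      rintro _ ⟨p, rfl⟩
      exact hs _ ⟨p, rfl⟩ v hv
    let σ := ρ.comp (MulAction.stabilizer P v).subtype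
    have k2 : Nat.card σ.ker ∣ 2 ^ 21 := by
      rw [← h.cardR]
      exact card_dvd_of_injective (((MulAction.stabilizer P v).subtype.comp σ.ker.subtype).codRestrict R
        fun p => hNR p.2) fun a b e => Subtype.ext (Subtype.ext (congrArg (fun y : R => (y : P)) e))
    have k3 : Nat.card σ.range ∣ 495766656000 := by
      rw [← card_stab_three h3]
      refine card_dvd_of_le ?_
      rintro _ ⟨p, rfl⟩
      exact p.2
    have k4 := σ.ker.card_mul_index
    have k5 := (MulAction.stabilizer P v).card_mul_index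
    rw [index_ker] at k4
    rw [h.card, ← k4] at k5
    have k6 : 93555 * (3 * 2 ^ 36) ∣ 2 ^ 21 * 495766656000 * (MulAction.stabilizer P v).index :=
      k5 ▸ Nat.mul_dvd_mul_right (Nat.mul_dvd_mul k2 k3) _
    have k7 : (MulAction.stabilizer P v).index ≠ 0 := index_ne_zero_of_finite
    generalize (MulAction.stabilizer P v).index = i at k1 k6 k7
    interval_cases i <;> first | exact k7 rfl | exact absurd k6 (by decide)

end TE

/-- **`²E₆(2)` is not a subgroup of the Monster.** -/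
theorem noTE6 (hK : AllKnown.{0}) : NoTE6 := by
  rintro S ⟨K, _, _, hc, ⟨e⟩⟩
  obtain ⟨-, φ, F⟩ := TwoESix.LeviA.exists_four K hc
  have h := parE F
  let ι := S.subtype.comp (e.symm.toMonoidHom.comp (centralizer ({TwoESix.LeviF.r0 F} : Set _)).subtype)
  have hι : Function.Injective ι := S.subtype_injective.comp (e.symm.injective.comp (Subgroup.subtype_injective _))
  rcases cls (v := ι ⟨_, mem_centralizer_singleton_iff.2 rfl⟩) (by
    rw [orderOf_injective ι hι]
    exact order_two (by rw [pow_two, h.z_sq]) h.z_ne) with ⟨g, hg⟩ | k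
  · refine TE.caseB hK h ((MulAut.conj g⁻¹).toMonoidHom.comp ι) ((MulAut.conj g⁻¹).injective.comp hι) ?_
    show g⁻¹ * ι _ * g⁻¹⁻¹ = zz
    rw [← hg]
    group
  · exact TE.caseA h ι hι k

/-- **Box `NL`.** -/
theorem boxNL (B : H940.Eng.Base) : BoxNL := boxNL_of B (noTE6 (allKnown B)) noFi24

end Cfsg.Agent.SP.Mon.NL
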