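import Cfsg.Agent.SP.Mon.NL.Cent
import Cfsg.Agent.OrdDiv.Main
import Cfsg.Agent.H72.AdjOrth
import Cfsg.Agent.H72.AdjPSUW
import Cfsg.Agent.S2466
import Cfsg.Agent.S2468

/-! # S5755, the Monster: simple groups excluded by element orders, and the Sylow test -/

set_option autoImplicit false
set_option maxRecDepth 100000
set_option linter.style.haveILetI false

namespace Cfsg.Agent.SP.Mon.NL

open Cfsg Cfsg.Agent.OrdDiv
open Cfsg.Agent.BpSpor.MBigModel (MG card_M)
open Cfsg.Agent.H995.CopEngine (AllKnown)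
open Subgroup (centralizer zpowers mem_centralizer_singleton_iff normalizer)

theorem false_of_order (hK : AllKnown.{0}) {S T : Type*} [Group S] [Group T] (φ : S →* MG) (hφ : Function.Injective φ)
    (e : S ≃* T) {n : ℕ} (hn : n ∈ [65, 77, 85, 91, 205, 341]) (h : ∃ x : T, orderOf x = n) : False := by
  obtain ⟨x, hx⟩ := h
  refine not_order hK (g := φ (e.symm x)) hn ?_
  rw [orderOf_injective φ hφ, MulEquiv.orderOf_eq, hx]

/-- the names excluded by element orders -/
def exO : Grp → Bool
  | .alt n => Nat.ble 18 n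
  | .psl n q => Nat.beq n 6 && Nat.beq q 3
  | .psu n q => Nat.beq n 6 && Nat.beq q 4
  | .oplus n q => Nat.beq n 6 && Nat.beq q 2
  | .ominus n q => Nat.beq n 6 && Nat.beq q 2
  | _ => false

theorem ord_13 : orderOf ((3 : ℕ) : ZMod 13) = 3 := by
  have : Fact (Nat.Prime 3) := ⟨Nat.prime_three⟩
  exact orderOf_eq_prime (by decide) (by decide)

theorem ord_7 : orderOf ((3 : ℕ) : ZMod 7) = 6 := by
  rw [orderOf_eq_iff (by norm_num)]
  refine ⟨by decide, fun m h1 h2 => ?_⟩
  interval_cases m <;> decide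

theorem false_of_exO (hK : AllKnown.{0}) {S : Type} [Group S] (φ : S →* MG) (hφ : Function.Injective φ) {g : Grp}
    (hg : exO g = true) (h : OrdDiv.Real g S) (hc : Nat.card S = ordN g) : False := by
  cases g with
  | alt n =>
    obtain ⟨e⟩ := h
    rw [exO, Nat.ble_eq] at hg
    exact false_of_order hK φ hφ e (n := 77) (by simp)
      ((S2466.result n 7 11 (by norm_num) (by norm_num) (by norm_num) (by norm_num) (by norm_num) (by omega)
        (by omega)).2 hg)
  | psl n q =>
    simp only [exO, Bool.and_eq_true, Nat.beq_eq] at hg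
    obtain ⟨rfl, rfl⟩ := hg
    obtain ⟨F, _, _, hF, ⟨e⟩⟩ := h
    have h3 : Fact (Nat.Prime 3) := ⟨Nat.prime_three⟩
    have hch : CharP F 3 := by
      obtain ⟨p, hp⟩ := CharP.exists F
      obtain ⟨m, hpp, hm⟩ := FiniteField.card F p
      have : p = 3 := by
        rw [hF] at hm
        exact ((Nat.prime_dvd_prime_iff_eq hpp Nat.prime_three).1 (hm ▸ dvd_pow_self p m.ne_zero))
      exact this ▸ hp
    have hc' : Nat.card (Matrix.ProjectiveSpecialLinearGroup (Fin 6) F) = 21032402889738240 := by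
      rw [← Nat.card_congr e.toEquiv, hc]; decide +kernel
    have h1 := S2468.result (F := F) 3 6 (by norm_num) (by norm_num) 13 7 (by norm_num) (by norm_num) (by norm_num)
      (by norm_num) (by norm_num) (by norm_num) (by norm_num) (by rw [hc']; norm_num) (by rw [hc']; norm_num) 3 6
      (by rw [hF, ord_13]) (by rw [hF, ord_7]) (by norm_num) (by norm_num)
    refine false_of_order hK φ hφ e (n := 91) (by simp) ?_
    by_contra hn
    exact (h1.1 hn).2 (by norm_num)
  | psu n q =>
    simp only [exO, Bool.and_eq_true, Nat.beq_eq] at hg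
    obtain ⟨rfl, rfl⟩ := hg
    obtain ⟨F, _, _, hF, ⟨e⟩⟩ := h
    exact false_of_order hK φ hφ e (n := 91) (by simp) (H72.AdjPSU.exists_order_of_block hF (by norm_num)
      (H72.AdjPSU.hasBlock_nu hF (a := 6) (d := 91) (by norm_num) (by norm_num [Nat.even_iff]) (by norm_num))
      (by norm_num) le_rfl (by norm_num) 91 dvd_rfl)
  | oplus n q =>
    simp only [exO, Bool.and_eq_true, Nat.beq_eq] at hg
    obtain ⟨rfl, rfl⟩ := hg
    obtain ⟨F, _, _, hF, ⟨e⟩⟩ := h
    have hF' : Nat.card F = 2 := by rw [Nat.card_eq_fintype_card, hF]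
    have h1 : H377.Elt F 4 (-1) 17 := H72.AdjOrth.elt_tn (k := 8) (by norm_num) (by rw [hF']; decide)
    have h2 : H377.Elt F 2 (-1) 5 := H72.AdjOrth.elt_tn (k := 4) (by norm_num) (by rw [hF']; decide)
    have h3 : H377.Elt F 6 1 85 := h1.prod h2
    exact false_of_order hK φ hφ e (n := 85) (by simp) ((h3.two (by norm_num) (by decide)).plus (by norm_num))
  | ominus n q =>
    simp only [exO, Bool.and_eq_true, Nat.beq_eq] at hg
    obtain ⟨rfl, rfl⟩ := hg
    obtain ⟨F, _, _, a, b, hF, hab, ⟨e⟩⟩ := h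
    have hF' : Nat.card F = 2 := by rw [Nat.card_eq_fintype_card, hF]
    have h1 : H377.Elt F 6 (-1) 65 := H72.AdjOrth.elt_tn (k := 12) (by norm_num) (by rw [hF']; decide)
    exact false_of_order hK φ hφ e (n := 65) (by simp) ((h1.two (by norm_num) (by decide)).minus (by norm_num) hab)
  | _ => simp [exO] at hg

theorem card_cent_dvd {G H : Type*} [Group G] [Group H] (φ : G →* H) (hφ : Function.Injective φ) (x : G) :
    Nat.card (centralizer ({x} : Set G)) ∣ Nat.card (centralizer ({φ x} : Set H)) := by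
  rw [← Subgroup.card_map_of_injective hφ]
  refine Subgroup.card_dvd_of_le ?_
  rintro _ ⟨y, hy, rfl⟩
  rw [mem_centralizer_singleton_iff, ← map_mul, mem_centralizer_singleton_iff.1 hy, map_mul]

/-- the Sylow test at the prime `p` with `|C(p)| = c` -/
def syl (n p c : ℕ) : Bool :=
  Nat.beq (n % p) 0 && (List.range (c * (p - 1) + 1)).all fun m =>
    Nat.blt 0 (c * (p - 1) % m) || Nat.blt 0 (n % m) || !(Nat.beq (n / m % p) 1)

theorem false_of_syl (hK : AllKnown.{0}) {G : Type*} [Group G] [Finite G] (φ : G →* MG) (hφ : Function.Injective φ)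
    {p c : ℕ} (hpc : (p, c) ∈ [(31, 186), (41, 41)]) (h : syl (Nat.card G) p c = true) : False := by
  have hp : p.Prime ∧ 11 ≤ p ∧ ¬ p ^ 2 ∣ NM := by
    simp only [List.mem_cons, Prod.mk.injEq, List.not_mem_nil, or_false] at hpc
    rcases hpc with ⟨rfl, -⟩ | ⟨rfl, -⟩ <;> norm_num
  obtain ⟨hp, h11, hsq⟩ := hp
  have := Fact.mk hp
  simp only [syl, Bool.and_eq_true, Nat.beq_eq, List.all_eq_true, Bool.or_eq_true, Nat.blt_eq, Bool.not_eq_true',
    List.mem_range] at h
  obtain ⟨h1, h2⟩ := h
  have hG : Nat.card G ∣ NM := by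
    rw [NM, ← card_M]; exact Subgroup.card_dvd_of_injective φ hφ
  obtain ⟨x, hx⟩ := exists_prime_orderOf_dvd_card' p (Nat.dvd_of_mod_eq_zero h1)
  have hc : Nat.card (centralizer ({φ x} : Set MG)) = c := by
    have h3 := cent_exact hK hp h11 (x := φ x) (by rw [orderOf_injective φ hφ, hx])
    simp only [List.mem_cons, Prod.mk.injEq, List.not_mem_nil, or_false] at hpc h3
    omega
  have hP : Nat.card (zpowers x) = p ^ 1 := by rw [Nat.card_zpowers, hx, pow_one]
  let P : Sylow p G := (IsPGroup.of_card hP).toSylow fun hd => hsq (Dvd.dvd.trans (by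
    rw [← (zpowers x).card_mul_index, hP, pow_two, pow_one]
    exact Nat.mul_dvd_mul_left _ hd) hG)
  have e1 : Nat.card (Sylow p G) % p = 1 := by
    have := card_sylow_modEq_one p G
    rwa [Nat.ModEq, Nat.mod_eq_of_lt hp.one_lt] at this
  have e2 : Nat.card (normalizer ((zpowers x : Subgroup G) : Set G)) * Nat.card (Sylow p G) = Nat.card G := by
    rw [P.card_eq_index_normalizer]
    exact Subgroup.card_mul_index _
  have e3 : Nat.card (normalizer ((zpowers x : Subgroup G) : Set G)) ∣ c * (p - 1) := by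
    rw [← ((zpowers x).normalizerMonoidHom.ker).card_mul_index, Subgroup.index_ker]
    refine Nat.mul_dvd_mul ?_ ?_
    · rw [← hc]
      refine Dvd.dvd.trans ?_ (card_cent_dvd φ hφ x)
      rw [Subgroup.normalizerMonoidHom_ker, ← Subgroup.card_map_of_injective (Subgroup.subtype_injective _)]
      refine Subgroup.card_dvd_of_le ?_
      rintro _ ⟨y, hy, rfl⟩
      exact mem_centralizer_singleton_iff.2 (hy x (Subgroup.mem_zpowers x)).symm
    · have : IsCyclic (zpowers x) := inferInstance
      rw [← Nat.totient_prime hp, ← hx, ← Nat.card_zpowers, ← IsCyclic.card_mulAut]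
      exact Subgroup.card_subgroup_dvd_card _
  generalize Nat.card (normalizer ((zpowers x : Subgroup G) : Set G)) = m at e2 e3
  have hpos : 0 < c * (p - 1) := Nat.mul_pos (by rw [← hc]; have := BpSpor.MBigModel.finite; exact Nat.card_pos)
    (by omega)
  have hm : 0 < m := Nat.pos_of_dvd_of_pos e3 hpos
  rcases h2 m (Nat.lt_succ_of_le (Nat.le_of_dvd hpos e3)) with (h3 | h3) | h3
  · exact h3.ne' (Nat.mod_eq_zero_of_dvd e3)
  · exact h3.ne' (Nat.mod_eq_zero_of_dvd (Dvd.intro _ e2))
  · rw [← e2, Nat.mul_div_cancel_left _ hm, e1] at h3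
    simp at h3

end Cfsg.Agent.SP.Mon.NL
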