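import Cfsg.Agent.SP.Mon.NL.BoxU
import Cfsg.Agent.SP.Mon.NL.Out
import Cfsg.Agent.SP.Mon.NL.Excl
import Cfsg.Agent.Lib.MinNormal

/-! # S5755, the Monster: subgroups with two commuting components -/

set_option autoImplicit false
set_option maxRecDepth 100000
set_option linter.style.haveILetI false

namespace Cfsg.Agent.SP.Mon.NL

open Cfsg Cfsg.Agent.OrdDiv
open Cfsg.Agent.BpSpor.MBigModel (MG card_M)
open Cfsg.Agent.H995.CopEngine (AllKnown)
open Subgroup

section general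

variable {G : Type*} [Group G]

theorem eq_one_of_comm {S : Subgroup G} (hS : IsSimpleGroup S) (hna : ¬ ∀ a b : S, a * b = b * a) {x : G} (hx : x ∈ S)
    (h : ∀ y ∈ S, x * y = y * x) : x = 1 := by
  rcases hS.eq_bot_or_eq_top_of_normal (center S) inferInstance with h0 | h0
  · have : (⟨x, hx⟩ : S) ∈ center S := mem_center_iff.2 fun y => Subtype.ext (h y y.2).symm
    rw [h0, mem_bot] at this
    exact congrArg Subtype.val this
  · exact absurd (fun a b => mem_center_iff.1 (h0 ▸ mem_top b) a) hna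

theorem inf_eq_of_simple {S U : Subgroup G} (hS : IsSimpleGroup S) (hU : ∀ s ∈ S, ∀ u ∈ U, s * u * s⁻¹ ∈ U) :
    U ⊓ S = ⊥ ∨ S ≤ U := by
  have hn : (U.subgroupOf S).Normal := ⟨fun u hu s => hU s s.2 u hu⟩
  rcases hS.eq_bot_or_eq_top_of_normal _ hn with h | h
  · exact Or.inl (subgroupOf_eq_bot.1 h).eq_bot
  · exact Or.inr (subgroupOf_eq_top.1 h)

/-- the components of a minimal normal subgroup -/
theorem exists_comp [Finite G] (N : Subgroup G) [hN : N.Normal] (h0 : N ≠ ⊥)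
    (hmin : ∀ M : Subgroup G, M.Normal → M ≤ N → M = ⊥ ∨ M = N) (hp : ∀ p : ℕ, p.Prime → ¬ IsPGroup p N) :
    ∃ S ≤ N, IsSimpleGroup S ∧ (¬ ∀ a b : S, a * b = b * a) ∧
      Nat.card S ^ (normalizer (S : Set G)).index ∣ Nat.card G ∧
      (S = N ∨ ∃ S' ≤ N, Nat.card S' = Nat.card S ∧ ∀ x ∈ S, ∀ y ∈ S', Commute x y) := by
  classical
  obtain ⟨m, S, hm, hSN, hSs, hNS, hconj, hcomm, -, hind, hsup⟩ :=
    Cfsg.Agent.Lib.MinNormal.exists_internal_decomposition N h0 hmin
  let i0 : Fin m := ⟨0, hm⟩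
  have hcard : ∀ j, Nat.card (S j) = Nat.card (S i0) := fun j => by
    obtain ⟨g, hg⟩ := hconj i0 j
    rw [hg, NegS.card_map_conj]
  have hN' : Nat.card N = Nat.card (S i0) ^ m := by
    obtain ⟨e⟩ := Cfsg.Agent.Lib.MinNormal.mulEquiv_pi_of_iSupIndep S (fun i j hij x y hx hy => hcomm i j hij x hx y hy)
      hind hsup
    rw [Nat.card_congr e.toEquiv, Nat.card_pi]
    simp [hcard]
  have hna : ¬ ∀ a b : S i0, a * b = b * a := by
    intro hab
    haveI := hSs i0
    letI : CommGroup (S i0) := { (inferInstance : Group (S i0)) with mul_comm := hab }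
    exact hp _ IsSimpleGroup.prime_card (IsPGroup.of_card hN')
  have key : ∀ g : G, ∃ j, (S i0).map (MulAut.conj g).toMonoidHom = S j := by
    intro g
    by_contra hc
    push Not at hc
    set U := (S i0).map (MulAut.conj g).toMonoidHom with hU
    let e : S i0 ≃* U := (S i0).equivMapOfInjective _ (MulAut.conj g).injective
    have hUN : U ≤ N := by
      rintro _ ⟨x, hx, rfl⟩
      exact hN.conj_mem x (hSN i0 hx) g
    have hNU : ∀ n ∈ N, ∀ u ∈ U, n * u * n⁻¹ ∈ U := by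
      rintro n hn _ ⟨x, hx, rfl⟩
      refine ⟨(g⁻¹ * n * g) * x * (g⁻¹ * n * g)⁻¹, NegS.conj_mem_of_le (hNS i0) (hN.conj_mem' n hn g) hx, ?_⟩
      simp [mul_assoc]
    have hc1 : ∀ j, ∀ y ∈ S j, ∀ u ∈ U, y * u = u * y := by
      intro j y hy u hu
      rcases inf_eq_of_simple (hSs j) (U := U) (fun s hs => hNU s (hSN j hs)) with h | h
      · have h1 : y * u * y⁻¹ * u⁻¹ ∈ U ⊓ S j := ⟨U.mul_mem (hNU y (hSN j hy) u hu) (U.inv_mem hu), by
          have := (S j).mul_mem hy (NegS.conj_mem_of_le (hNS j) (hUN hu) ((S j).inv_mem hy))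
          simpa [mul_assoc] using this⟩
        rw [h, mem_bot, mul_inv_eq_one, mul_inv_eq_iff_eq_mul] at h1
        exact h1
      · exact absurd (eq_of_le_of_card_ge h (by rw [hU, NegS.card_map_conj, hcard j])).symm (hc j)
    have hc2 : ∀ y ∈ N, ∀ u ∈ U, y * u = u * y := by
      intro y hy u hu
      rw [← hsup] at hy
      induction hy using Subgroup.iSup_induction' with
      | hp j y hy => exact hc1 j y hy u hu
      | h1 => simp
      | hmul a b _ _ ha hb => rw [mul_assoc, hb, ← mul_assoc, ha, mul_assoc]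
    refine hna fun a b => e.injective ?_
    rw [map_mul, map_mul]
    exact Subtype.ext (hc2 _ (hUN (e a).2) _ (e b).2)
  choose f hf using key
  have hidx : (normalizer (S i0 : Set G)).index ≤ m := by
    have h1 := NegS.card_le_mul (A := ⊤) (D := normalizer (S i0 : Set G)) (Finset.univ : Finset (Fin m)) f
      (fun _ _ => Finset.mem_univ _) fun a _ b _ hab => by
        have h2 : (S i0).map (MulAut.conj a).toMonoidHom = (S i0).map (MulAut.conj b).toMonoidHom := by
          rw [hf, hf, hab]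
        refine mem_normalizer_fintype fun x hx => ?_
        have h3 : b * x * b⁻¹ ∈ (S i0).map (MulAut.conj a).toMonoidHom := h2 ▸ ⟨x, hx, rfl⟩
        have h4 := mem_map_conj.1 h3
        simpa [mul_assoc] using h4
    rw [card_top, Finset.card_univ, Fintype.card_fin, ← (normalizer (S i0 : Set G)).index_mul_card] at h1
    exact Nat.le_of_mul_le_mul_right h1 Nat.card_pos
  refine ⟨S i0, hSN i0, hSs i0, hna, ((pow_dvd_pow _ hidx).trans hN'.symm.dvd).trans N.card_subgroup_dvd_card, ?_⟩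
  by_cases h1 : ∀ j, j = i0
  · left
    rw [← hsup]
    exact le_antisymm (le_iSup S i0) (iSup_le fun j => by rw [h1 j])
  · push Not at h1
    obtain ⟨j, hj⟩ := h1
    exact Or.inr ⟨S j, hSN j, hcard j, hcomm i0 j hj.symm⟩

theorem card_dvd_aut [Finite G] (T : Subgroup G) : Nat.card G ∣ (normalizer (T : Set G)).index *
    (Nat.card (MulAut T) * Nat.card (centralizer (T : Set G))) := by
  rw [← (normalizer (T : Set G)).index_mul_card, ← (T.normalizerMonoidHom.ker).index_mul_card, Subgroup.index_ker]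
  refine Nat.mul_dvd_mul_left _ (Nat.mul_dvd_mul (card_subgroup_dvd_card _) ?_)
  rw [Subgroup.normalizerMonoidHom_ker, ← Subgroup.card_map_of_injective (Subgroup.subtype_injective _)]
  refine Subgroup.card_dvd_of_le ?_
  rintro _ ⟨y, hy, rfl⟩
  exact hy

/-- `x ∈ U`, `V` commutes with `U`, `U ∩ V = 1`: `o(x) |V|` divides `|C(x)|` -/
theorem order_mul_dvd [Finite G] {U V : Subgroup G} (hd : ∀ x ∈ U, x ∈ V → x = 1) (hc : ∀ x ∈ U, ∀ y ∈ V, Commute x y)
    {x : G} (hx : x ∈ U) : orderOf x * Nat.card V ∣ Nat.card (centralizer ({x} : Set G)) := by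
  have hle : zpowers x ≤ U := zpowers_le.2 hx
  rw [← Nat.card_zpowers]
  refine NegS.card_mul_dvd (fun y hy => ?_) (fun y hy => mem_centralizer_singleton_iff.2 (hc x hx y hy).symm.eq)
    (eq_bot_iff.2 fun y hy => hd y (hle hy.1) hy.2) fun y hy => hc y (hle hy)
  obtain ⟨k, rfl⟩ := hy
  exact mem_centralizer_singleton_iff.2 ((Commute.refl x).zpow_left k).eq

end general

/-! ### The numbers -/

/-- the odd primes dividing `|M|` -/
def oddP : List ℕ := [3, 5, 7, 11, 13, 17, 19, 23, 29, 31, 41, 47, 59, 71]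

/-- the multiples of the even centralizer orders at `p` -/
def opts (p : ℕ) : List ℕ := (tabE.filter fun e => Nat.beq e.1 p).map fun e => e.2

theorem mem_opts {p c : ℕ} (h : (p, c) ∈ tabE) : c ∈ opts p :=
  List.mem_map.2 ⟨(p, c), List.mem_filter.2 ⟨h, by simp⟩, rfl⟩

/-- multiples of `|C(T)|` for `|T| = o` -/
def Ds (o : ℕ) : List ℕ → List ℕ
  | [] => [NM]
  | p :: ps => if o % p = 0 then
      ((Ds o ps).flatMap fun D => (opts p).map fun c => Nat.gcd D (c / p)).filter fun D => Nat.ble o D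
    else Ds o ps

theorem Ds_realised : True := by have := @Ds.eq_def; trivial

theorem exists_Ds {o K : ℕ} (hK : K ∣ NM) (hle : o ≤ K) : ∀ ps : List ℕ, (∀ p ∈ ps, 0 < p) →
    (∀ p ∈ ps, p ∣ o → ∃ c ∈ opts p, p * K ∣ c) → ∃ D ∈ Ds o ps, 0 < D ∧ K ∣ D
  | [], _, _ => ⟨NM, by simp [Ds], by norm_num, hK⟩
  | p :: ps, h0, h => by
    obtain ⟨D, h1, h2, h3⟩ := exists_Ds hK hle ps (fun q hq => h0 q (List.mem_cons_of_mem _ hq))
      fun q hq => h q (List.mem_cons_of_mem _ hq)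
    rw [Ds]
    split_ifs with hp
    · obtain ⟨c, h4, h5⟩ := h p List.mem_cons_self (Nat.dvd_of_mod_eq_zero hp)
      have h6 : K ∣ Nat.gcd D (c / p) := Nat.dvd_gcd h3 (Nat.dvd_div_of_mul_dvd h5)
      have h7 : 0 < Nat.gcd D (c / p) := Nat.gcd_pos_of_pos_left _ h2
      refine ⟨_, List.mem_filter.2 ⟨List.mem_flatMap.2 ⟨D, h1, List.mem_map.2 ⟨c, h4, rfl⟩⟩, ?_⟩, h7, h6⟩
      rw [Nat.ble_eq]
      exact hle.trans (Nat.le_of_dvd h7 h6)
    · exact ⟨D, h1, h2, h3⟩

/-- removing the primes whose centralizers cannot contain `T` -/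
def strip (o : ℕ) : List ℕ → ℕ → ℕ
  | [], D => D
  | p :: ps, D => if (opts p).any (fun c => Nat.beq (c % (p * o)) 0) then strip o ps D
    else strip o ps (D / Nat.gcd D (p ^ 20))

theorem strip_realised : True := by have := @strip.eq_def; trivial

theorem dvd_strip {o K : ℕ} : ∀ (ps : List ℕ) (D : ℕ), (∀ p ∈ ps, p.Prime) →
    (∀ p ∈ ps, p ∣ K → ∃ c ∈ opts p, p * o ∣ c) → 0 < D → K ∣ D → 0 < strip o ps D ∧ K ∣ strip o ps D
  | [], _, _, _, h1, h2 => ⟨h1, h2⟩
  | p :: ps, D, h0, h, h1, h2 => by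
    have ih := fun D => dvd_strip (o := o) (K := K) ps D (fun q hq => h0 q (List.mem_cons_of_mem _ hq))
      fun q hq => h q (List.mem_cons_of_mem _ hq)
    rw [strip]
    split_ifs with hp
    · exact ih D h1 h2
    · refine ih _ (Nat.div_pos (Nat.le_of_dvd h1 (Nat.gcd_dvd_left _ _)) (Nat.gcd_pos_of_pos_left _ h1)) ?_
      have h3 : ¬ p ∣ K := fun hd => by
        obtain ⟨c, h4, h5⟩ := h p List.mem_cons_self hd
        exact hp (List.any_eq_true.2 ⟨c, h4, by simpa using Nat.mod_eq_zero_of_dvd h5⟩)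
      have h4 : Nat.Coprime (Nat.gcd D (p ^ 20)) K :=
        (((Nat.Prime.coprime_iff_not_dvd (h0 p List.mem_cons_self)).2 h3).pow_left 20).coprime_dvd_left
          (Nat.gcd_dvd_right _ _)
      exact Nat.dvd_div_of_mul_dvd (h4.mul_dvd_of_dvd_of_dvd (Nat.gcd_dvd_left _ _) h2)

/-- the check for a component of order `o` with `|Out|` dividing `u` -/
def chkC (o u : ℕ) : Bool :=
  (Ds o oddP).all fun D => Nat.blt (strip o oddP D) o ||
    (List.range 47).all fun k => Nat.blt 0 (NM % o ^ k) || Nat.beq k 0 || pass (k * (u * o * strip o oddP D)) 0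

theorem chkC_all : (LM.all fun e => Nat.beq (e.2.1 % 2) 0 && Nat.blt 0 e.2.1 && Nat.blt 0 e.2.2 &&
    chkC e.2.1 e.2.2) = true := by
  decide +kernel

theorem two_dvd_card (B : H940.Eng.Base) {S : Type} [Group S] [Finite S] [IsSimpleGroup S]
    (hna : ¬ ∀ a b : S, a * b = b * a) (hd : Nat.card S ∣ NM) : 2 ∣ Nat.card S := by
  obtain ⟨e, he, -, h2, -⟩ := exists_name B hna hd
  have h := List.all_eq_true.1 chkC_all e he
  simp only [Bool.and_eq_true, Nat.beq_eq] at h
  rw [h2]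
  exact Nat.dvd_of_mod_eq_zero h.1.1.1

/-- **Two commuting components.** -/
theorem comp_pass (B : H940.Eng.Base) {G : Type} [Group G] [Finite G] (φ : G →* MG) (hφ : Function.Injective φ)
    {T T' : Subgroup G} (hT : IsSimpleGroup T) (hna : ¬ ∀ a b : T, a * b = b * a)
    (hk : Nat.card T ^ (normalizer (T : Set G)).index ∣ Nat.card G) (hc : ∀ x ∈ T, ∀ y ∈ T', Commute x y)
    (hle : Nat.card T ≤ Nat.card T') (h2 : 2 ∣ Nat.card T') :
    ∃ n, Nat.card G ∣ n ∧ 0 < n ∧ pass n 0 = true := by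
  have hK := allKnown B
  have hG : Nat.card G ∣ NM := by
    rw [NM, ← card_M]; exact Subgroup.card_dvd_of_injective φ hφ
  obtain ⟨e, he, -, ho, ha⟩ := exists_name B hna (T.card_subgroup_dvd_card.trans hG)
  have h := List.all_eq_true.1 chkC_all e he
  simp only [Bool.and_eq_true, Nat.beq_eq, Nat.blt_eq] at h
  obtain ⟨⟨⟨k1, k2⟩, k3⟩, h⟩ := h
  have h2T : 2 ∣ Nat.card T := ho ▸ Nat.dvd_of_mod_eq_zero k1
  set K := centralizer (T : Set G) with hKdef
  have hT'K : T' ≤ K := fun y hy x hx => (hc x hx y hy).eq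
  have hcK : ∀ x ∈ T, ∀ y ∈ K, Commute x y := fun x hx y hy => hy x hx
  have hd : ∀ x ∈ T, x ∈ K → x = 1 := fun x hx hxK => eq_one_of_comm hT hna hx fun y hy => (hxK y hy).symm
  have hprime : ∀ p ∈ oddP, p.Prime ∧ p ≠ 2 := by decide +kernel
  have key : ∀ {U V : Subgroup G}, (∀ x ∈ U, x ∈ V → x = 1) → (∀ x ∈ U, ∀ y ∈ V, Commute x y) → 2 ∣ Nat.card V →
      ∀ p ∈ oddP, p ∣ Nat.card U → ∃ c ∈ opts p, p * Nat.card V ∣ c := by
    intro U V h1 h3 h4 p hp hpU
    have := Fact.mk (hprime p hp).1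
    obtain ⟨x, hx⟩ := exists_prime_orderOf_dvd_card' p hpU
    have hx' : orderOf (x : G) = p := by rw [orderOf_coe, hx]
    have h5 := (order_mul_dvd h1 h3 x.2).trans (card_cent_dvd φ hφ x)
    rw [hx'] at h5
    obtain ⟨c, h6, h7⟩ := cent_E hK (hprime p hp).1 (hprime p hp).2 (x := φ x) (by rw [orderOf_injective φ hφ, hx'])
      (Or.inr ((h4.mul_left p).trans h5))
    exact ⟨c, mem_opts h6, h5.trans h7⟩
  have hoK : e.2.1 ≤ Nat.card K := ho ▸ hle.trans (card_le_of_le hT'K)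
  obtain ⟨D, hD, hD0, hKD⟩ := exists_Ds (K.card_subgroup_dvd_card.trans hG) hoK oddP
    (fun p hp => (hprime p hp).1.pos) (ho ▸ key hd hcK (h2.trans (card_dvd_of_le hT'K)))
  obtain ⟨hs0, hs⟩ := dvd_strip (o := e.2.1) oddP D (fun p hp => (hprime p hp).1)
    (ho ▸ key (fun x hx hx' => hd x hx' hx) (fun x hx y hy => (hcK y hy x hx).symm) h2T) hD0 hKD
  have h3 := List.all_eq_true.1 h D hD
  simp only [Bool.or_eq_true, Nat.blt_eq, List.all_eq_true, List.mem_range, Nat.beq_eq] at h3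
  rcases h3 with h3 | h3
  · exact absurd (hoK.trans (Nat.le_of_dvd hs0 hs)) (not_le.2 h3)
  have hk' := hk.trans hG
  have hk0 : (normalizer (T : Set G)).index ≠ 0 := index_ne_zero_of_finite
  have h47 : (normalizer (T : Set G)).index < 47 := by
    by_contra h4
    have h5 : 2 ^ 47 ∣ NM := ((pow_dvd_pow 2 (not_lt.1 h4)).trans (pow_dvd_pow_of_dvd h2T _)).trans hk'
    norm_num at h5
  rcases h3 _ h47 with (h4 | h4) | h4
  · rw [ho] at hk'
    exact absurd (Nat.mod_eq_zero_of_dvd hk') h4.ne'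
  · exact absurd h4 hk0
  · refine ⟨_, (card_dvd_aut T).trans (Nat.mul_dvd_mul_left _ (Nat.mul_dvd_mul ha hs)), ?_, h4⟩
    exact Nat.mul_pos (Nat.pos_of_ne_zero hk0) (Nat.mul_pos (Nat.mul_pos k3 k2) hs0)

end Cfsg.Agent.SP.Mon.NL
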