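import Cfsg.Agent.S4106

/-! # S5755, the Monster: counting pairs of involutions by their product (general part)

`np Y Q` is the number of pairs `(u, v)` of elements of `Y` whose product satisfies `Q`. -/

set_option autoImplicit false
set_option linter.style.haveILetI false

namespace Cfsg.Agent.SP.Mon.NL

open Subgroup

variable {G : Type*} [Group G]

/-- the pairs from `Y` whose product satisfies `Q` -/
noncomputable def np (Y : Set G) (Q : G → Prop) : ℕ :=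
  {p : G × G | p.1 ∈ Y ∧ p.2 ∈ Y ∧ Q (p.1 * p.2)}.ncard

/-- the first members of the pairs from `Y` with product `g` -/
def fst (Y : Set G) (g : G) : Set G := {u | u ∈ Y ∧ u⁻¹ * g ∈ Y}

theorem np_true (Y : Set G) : np Y (fun _ => True) = Y.ncard ^ 2 := by
  unfold np
  rw [pow_two, ← Set.ncard_prod]
  congr 1
  ext p
  simp

theorem np_mono [Finite G] {Y : Set G} {Q R : G → Prop}
    (h : ∀ u ∈ Y, ∀ v ∈ Y, Q (u * v) → R (u * v)) : np Y Q ≤ np Y R :=
  Set.ncard_le_ncard (fun _ hp => ⟨hp.1, hp.2.1, h _ hp.1 _ hp.2.1 hp.2.2⟩) (Set.toFinite _)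

theorem np_split [Finite G] (Y : Set G) (Q R : G → Prop) :
    np Y Q ≤ np Y (fun g => Q g ∧ R g) + np Y (fun g => Q g ∧ ¬ R g) := by
  unfold np
  refine le_trans (Set.ncard_le_ncard ?_ (Set.toFinite _)) (Set.ncard_union_le _ _)
  intro p hp
  by_cases h : R (p.1 * p.2)
  · exact Or.inl ⟨hp.1, hp.2.1, hp.2.2, h⟩
  · exact Or.inr ⟨hp.1, hp.2.1, hp.2.2, h⟩

theorem np_or [Finite G] (Y : Set G) (Q R : G → Prop) :
    np Y (fun g => Q g ∨ R g) ≤ np Y Q + np Y R := by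
  unfold np
  refine le_trans (Set.ncard_le_ncard ?_ (Set.toFinite _)) (Set.ncard_union_le _ _)
  intro p hp
  rcases hp.2.2 with h | h
  · exact Or.inl ⟨hp.1, hp.2.1, h⟩
  · exact Or.inr ⟨hp.1, hp.2.1, h⟩

theorem np_le_sum [Finite G] {Y : Set G} {Q : G → Prop} (Z : Finset G) (f : G → ℕ)
    (hZ : ∀ u ∈ Y, ∀ v ∈ Y, Q (u * v) → u * v ∈ Z)
    (hf : ∀ u ∈ Y, ∀ v ∈ Y, Q (u * v) → (fst Y (u * v)).ncard ≤ f (u * v)) :
    np Y Q ≤ ∑ g ∈ Z, f g := by
  classical
  haveI := Fintype.ofFinite G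
  let P : Finset (G × G) := Finset.univ.filter fun p => p.1 ∈ Y ∧ p.2 ∈ Y ∧ Q (p.1 * p.2)
  have e : np Y Q = P.card := by
    unfold np
    rw [← Set.ncard_coe_finset]
    congr 1
    ext p
    simp [P]
  have hP : ∀ p, p ∈ P ↔ p.1 ∈ Y ∧ p.2 ∈ Y ∧ Q (p.1 * p.2) := fun p => by simp [P]
  rw [e, Finset.card_eq_sum_card_fiberwise (f := fun p : G × G => p.1 * p.2) (t := Z)
    (fun p hp => by
      obtain ⟨h1, h2, h3⟩ := (hP p).1 hp
      exact hZ _ h1 _ h2 h3)]
  refine Finset.sum_le_sum fun g _ => ?_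
  rcases Finset.eq_empty_or_nonempty (P.filter fun p => p.1 * p.2 = g) with h0 | ⟨p, hp⟩
  · rw [h0]; exact Nat.zero_le _
  obtain ⟨hp1, rfl⟩ := Finset.mem_filter.1 hp
  obtain ⟨h1, h2, h3⟩ := (hP p).1 hp1
  refine le_trans ?_ (hf _ h1 _ h2 h3)
  rw [← Set.ncard_coe_finset]
  refine Set.ncard_le_ncard_of_injOn Prod.fst ?_ ?_ (Set.toFinite _)
  · intro q hq
    obtain ⟨hq1, hq2⟩ := Finset.mem_filter.1 hq
    obtain ⟨k1, k2, -⟩ := (hP q).1 hq1
    refine ⟨k1, ?_⟩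
    rw [← hq2, inv_mul_cancel_left]
    exact k2
  · intro q hq q' hq' e
    obtain ⟨-, hq2⟩ := Finset.mem_filter.1 hq
    obtain ⟨-, hq2'⟩ := Finset.mem_filter.1 hq'
    refine Prod.ext e ?_
    have : q.1 * q.2 = q.1 * q'.2 := by rw [hq2, e, hq2']
    exact mul_left_cancel this

theorem np_le_mul [Finite G] {Y : Set G} {Q : G → Prop} (Z : Set G) (c : ℕ)
    (hZ : ∀ u ∈ Y, ∀ v ∈ Y, Q (u * v) → u * v ∈ Z)
    (hf : ∀ u ∈ Y, ∀ v ∈ Y, Q (u * v) → (fst Y (u * v)).ncard ≤ c) :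
    np Y Q ≤ c * Z.ncard := by
  classical
  have h := np_le_sum (Set.toFinite Z).toFinset (fun _ => c) (fun u hu v hv h => by
    simpa using hZ u hu v hv h) hf
  rw [Finset.sum_const, smul_eq_mul, mul_comm, ← Set.ncard_eq_toFinset_card Z] at h
  exact h

/-- pairs of involutions with a given product -/
theorem fst_le_cent [Finite G] {X : Subgroup G} {Y : Set G} (hY : ∀ y ∈ Y, y ∈ X ∧ y * y = 1) (g : G) :
    (fst Y g).ncard ≤ Nat.card (X ⊓ centralizer ({g} : Set G) : Subgroup G) := by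
  rcases (fst Y g).eq_empty_or_nonempty with h0 | ⟨u₀, hu₀⟩
  · rw [h0]; simp
  have key : ∀ u ∈ fst Y g, u * g * u = g⁻¹ := by
    intro u hu
    have h1 := (hY u hu.1).2
    have h2 := (hY _ hu.2).2
    have h3 : u⁻¹ = u := inv_eq_of_mul_eq_one_left h1
    rw [h3] at h2
    refine eq_inv_of_mul_eq_one_left ?_
    rw [← h2]; group
  rw [← SetLike.coe_sort_coe, Nat.card_coe_set_eq]
  refine Set.ncard_le_ncard_of_injOn (fun u => u * u₀) ?_ ?_ (Set.toFinite _)
  · intro u hu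
    refine ⟨X.mul_mem (hY u hu.1).1 (hY u₀ hu₀.1).1, mem_centralizer_singleton_iff.2 ?_⟩
    have h1 := key u hu
    have h2 := key u₀ hu₀
    have h3 := (hY u hu.1).2
    have h4 := (hY u₀ hu₀.1).2
    calc u * u₀ * g = u * (u₀ * g * u₀) * u₀ * (u₀ * u₀)⁻¹ * (u₀ * u₀) * (u₀ * u₀)⁻¹ := by group
      _ = u * (u * g * u) * u₀ := by rw [h4, h2, h1]; group
      _ = (u * u) * g * (u * u₀) := by group
      _ = g * (u * u₀) := by rw [h3, one_mul]
  · intro u _ v _ e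
    exact mul_right_cancel e

/-- `∑ |C(g)|` over a union of conjugacy classes -/
theorem sum_cent_le {H : Type*} [Group H] [Finite H] (Z : Finset H) (P : ConjClasses H → Prop)
    (hZ : ∀ g ∈ Z, P (ConjClasses.mk g)) :
    ∑ g ∈ Z, Nat.card (centralizer ({g} : Set H)) ≤ Nat.card {C : ConjClasses H // P C} * Nat.card H := by
  classical
  have hr : ∀ C : ConjClasses H, ∃ r, ConjClasses.mk r = C := ConjClasses.exists_rep
  choose r hr using hr
  have ht : ∀ g : H, ∃ t : H, t * r (ConjClasses.mk g) * t⁻¹ = g := fun g =>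
    isConj_iff.1 (ConjClasses.mk_eq_mk_iff_isConj.1 (hr _))
  choose t ht using ht
  have e : ∑ g ∈ Z, Nat.card (centralizer ({g} : Set H)) =
      Nat.card (Σ g : Z, centralizer ({(g : H)} : Set H)) := by
    rw [Nat.card_sigma, Finset.sum_coe_sort Z fun g => Nat.card (centralizer ({g} : Set H))]
  rw [e, ← Nat.card_prod]
  refine Nat.card_le_card_of_injective
    (fun x => ((⟨ConjClasses.mk (x.1 : H), hZ _ x.1.2⟩ : {C : ConjClasses H // P C}), (x.2 : H) * t x.1)) ?_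
  rintro ⟨⟨g, hg⟩, c, hc⟩ ⟨⟨g', hg'⟩, c', hc'⟩ e
  have e1 : ConjClasses.mk g = ConjClasses.mk g' := congrArg (fun p => p.1.1) e
  have e2 : c * t g = c' * t g' := congrArg Prod.snd e
  have k : ∀ {g c : H}, c ∈ centralizer ({g} : Set H) →
      (c * t g) * r (ConjClasses.mk g) * (c * t g)⁻¹ = g := by
    intro g c hc
    have h1 := mem_centralizer_singleton_iff.1 hc
    calc (c * t g) * r (ConjClasses.mk g) * (c * t g)⁻¹
        = c * (t g * r (ConjClasses.mk g) * (t g)⁻¹) * c⁻¹ := by group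
      _ = g := by rw [ht, h1]; group
  have e3 : g = g' := by
    have h1 := k (g := g) hc
    have h2 := k (g := g') hc'
    rw [e2, e1] at h1
    exact h1.symm.trans h2
  subst e3
  have e4 : c = c' := mul_right_cancel e2
  subst e4
  rfl

theorem card_inf_cent (X : Subgroup G) (x : X) :
    Nat.card (X ⊓ centralizer ({(x : G)} : Set G) : Subgroup G) = Nat.card (centralizer ({x} : Set X)) := by
  refine Nat.card_congr ⟨fun c => ⟨⟨c.1, c.2.1⟩, ?_⟩, fun c => ⟨c.1.1, c.1.2, ?_⟩, fun _ => rfl, fun _ => rfl⟩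
  · exact mem_centralizer_singleton_iff.2 (Subtype.ext (mem_centralizer_singleton_iff.1 c.2.2))
  · exact mem_centralizer_singleton_iff.2 (congrArg Subtype.val (mem_centralizer_singleton_iff.1 c.2))

/-- **Pairs of involutions of `X` whose product is a `π`-element**: `m` is the `π`-part of `|X|`. -/
theorem np_pi [Finite G] {X : Subgroup G} {Y : Set G} (hY : ∀ y ∈ Y, y ∈ X ∧ y * y = 1)
    (π : Set ℕ) (hπ : ∀ q ∈ π, q.Prime) (m : ℕ) (hm : m ∣ Nat.card X)
    (hmπ : ∀ q : ℕ, q.Prime → q ∣ m → q ∈ π) (hm' : ∀ q ∈ π, ¬ q ∣ Nat.card X / m) {Q : G → Prop}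
    (hQ : ∀ u ∈ Y, ∀ v ∈ Y, Q (u * v) → ∀ q : ℕ, q.Prime → q ∣ orderOf (u * v) → q ∈ π) :
    np Y Q ≤ m * Nat.card X := by
  classical
  haveI := Fintype.ofFinite X
  let Z : Finset X := Finset.univ.filter fun g => ∀ q : ℕ, q.Prime → q ∣ orderOf g → q ∈ π
  have h1 := np_le_sum (Y := Y) (Q := Q) (Z.map ⟨Subtype.val, Subtype.val_injective⟩)
    (fun g => Nat.card (X ⊓ centralizer ({g} : Set G) : Subgroup G)) (fun u hu v hv h => by
      refine Finset.mem_map.2 ⟨⟨u * v, X.mul_mem (hY u hu).1 (hY v hv).1⟩, ?_, rfl⟩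
      refine Finset.mem_filter.2 ⟨Finset.mem_univ _, fun q hq hd => hQ u hu v hv h q hq ?_⟩
      rwa [orderOf_mk] at hd) (fun u _ v _ _ => fst_le_cent hY _)
  rw [Finset.sum_map] at h1
  refine h1.trans (le_trans (le_of_eq (Finset.sum_congr rfl fun x _ => card_inf_cent X x)) ?_)
  refine (sum_cent_le Z (fun C => ∀ q : ℕ, q.Prime → (∃ g : X, ConjClasses.mk g = C ∧ q ∣ orderOf g) → q ∈ π)
    fun g hg q hq ⟨g', e, hd⟩ => (Finset.mem_filter.1 hg).2 q hq ?_).trans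
    (Nat.mul_le_mul_right _ (Cfsg.Agent.S4106.result π hπ m hm hmπ hm'))
  obtain ⟨c, hc⟩ := isConj_iff.1 (ConjClasses.mk_eq_mk_iff_isConj.1 e)
  rw [← hc, ← MulAut.conj_apply, MulEquiv.orderOf_eq]
  exact hd

/-- **Pairs of involutions of `X` whose product has a small centralizer.** -/
theorem np_cent [Finite G] {X : Subgroup G} {Y : Set G} (hY : ∀ y ∈ Y, y ∈ X ∧ y * y = 1) {Q : G → Prop} (c : ℕ)
    (hQ : ∀ u ∈ Y, ∀ v ∈ Y, Q (u * v) → Nat.card (X ⊓ centralizer ({u * v} : Set G) : Subgroup G) ≤ c) :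
    np Y Q ≤ c * Nat.card X := by
  rw [← SetLike.coe_sort_coe, Nat.card_coe_set_eq]
  exact np_le_mul (X : Set G) c (fun u hu v hv _ => X.mul_mem (hY u hu).1 (hY v hv).1)
    fun u hu v hv h => (fst_le_cent hY _).trans (hQ u hu v hv h)

theorem np_one [Finite G] {Y : Set G} : np Y (fun g => g = 1) ≤ Y.ncard := by
  have h := np_le_mul (Y := Y) (Q := fun g => g = 1) {1} Y.ncard (fun u _ v _ h => h)
    fun u _ v _ _ => Set.ncard_le_ncard (fun _ h => h.1) (Set.toFinite _)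
  simpa using h

/-- **The graph bound**: `Q` defines a graph on `Y` in which two distinct points have at most `μ` common
neighbours. -/
theorem np_graph [Finite G] {Y : Set G} {Q : G → Prop} (μ : ℕ)
    (h : ∀ u ∈ Y, ∀ v ∈ Y, u ≠ v → {w | w ∈ Y ∧ Q (w * u) ∧ Q (w * v)}.ncard ≤ μ) :
    np Y Q ^ 2 ≤ Y.ncard * (np Y Q + μ * Y.ncard ^ 2) := by
  classical
  obtain ⟨S, rfl⟩ : ∃ S : Finset G, Y = S := ⟨(Set.toFinite Y).toFinset, by simp⟩
  rw [Set.ncard_coe_finset]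
  let d : G → ℕ := fun w => ∑ u ∈ S, if Q (w * u) then 1 else 0
  have e1 : np (S : Set G) Q = ∑ w ∈ S, d w := by
    unfold np
    have : {p : G × G | p.1 ∈ (S : Set G) ∧ p.2 ∈ (S : Set G) ∧ Q (p.1 * p.2)} =
        ((S ×ˢ S).filter fun p => Q (p.1 * p.2) : Finset (G × G)) := by
      ext p; simp [and_assoc]
    rw [this, Set.ncard_coe_finset, Finset.card_filter, Finset.sum_product]
  have e2 : ∑ w ∈ S, d w ^ 2 = ∑ u ∈ S, ∑ v ∈ S, ∑ w ∈ S, if Q (w * u) ∧ Q (w * v) then 1 else 0 := by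
    have : ∀ w, d w ^ 2 = ∑ u ∈ S, ∑ v ∈ S, if Q (w * u) ∧ Q (w * v) then 1 else 0 := by
      intro w
      rw [pow_two, Finset.sum_mul_sum]
      refine Finset.sum_congr rfl fun u _ => Finset.sum_congr rfl fun v _ => ?_
      by_cases h1 : Q (w * u) <;> by_cases h2 : Q (w * v) <;> simp [h1, h2]
    simp only [this]
    rw [Finset.sum_comm]
    exact Finset.sum_congr rfl fun u _ => Finset.sum_comm
  have e3 : ∀ u ∈ S, ∑ v ∈ S, ∑ w ∈ S, (if Q (w * u) ∧ Q (w * v) then 1 else 0) ≤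
      (∑ w ∈ S, if Q (w * u) then 1 else 0) + μ * S.card := by
    intro u hu
    rw [← Finset.add_sum_erase S _ hu]
    refine Nat.add_le_add (le_of_eq (by simp)) ?_
    refine le_trans (Finset.sum_le_card_nsmul _ _ μ fun v hv => ?_) ?_
    · obtain ⟨h1, h2⟩ := Finset.mem_erase.1 hv
      refine le_trans (le_of_eq ?_) (h u hu v h2 h1.symm)
      rw [← Finset.card_filter, ← Set.ncard_coe_finset]
      congr 1
      ext w; simp
    · rw [smul_eq_mul, mul_comm]
      exact Nat.mul_le_mul_left _ (Finset.card_erase_le)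
  have e4 : ∑ w ∈ S, d w ^ 2 ≤ ∑ w ∈ S, d w + μ * S.card ^ 2 := by
    rw [e2]
    refine (Finset.sum_le_sum e3).trans (le_of_eq ?_)
    rw [Finset.sum_add_distrib, Finset.sum_comm, Finset.sum_const, smul_eq_mul]
    ring
  rw [e1]
  exact (sq_sum_le_card_mul_sum_sq (s := S) (f := d)).trans (Nat.mul_le_mul_left _ e4)

end Cfsg.Agent.SP.Mon.NL
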