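import Cfsg.Agent.SP.Mon.NL.Comp

/-! # S5755, the Monster: box `NL` from the two remaining groups `²E₆(2)` and `Fi₂₄` -/

set_option autoImplicit false
set_option maxRecDepth 100000
set_option linter.style.haveILetI false

namespace Cfsg.Agent.SP.Mon.NL

open Cfsg Cfsg.Agent.OrdDiv
open Cfsg.Agent.BpSpor.MBigModel (MG card_M)
open Cfsg.Agent.H995.CopEngine (AllKnown)
open Subgroup

/-- `²E₆(2)` is not a subgroup of the Monster -/
def NoTE6 : Prop := ∀ S : Subgroup MG, ¬ OrdDiv.Real (.te6 2) S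

/-- no pair of index 2 on `Fi₂₄` -/
def NoFi24 : Prop := ∀ A S : Subgroup MG, IsPair A S → S.relIndex A = 2 → Spor.IsoFi24' S →
  (∀ a ∈ A, (∀ s ∈ S, a * s = s * a) → a = 1) → False

/-- the check for an almost simple group -/
def chkA (e : Grp × ℕ × ℕ) : Bool :=
  exO e.1 || decide (e.1 = .te6 2) || decide (e.1 = .fi24) || syl e.2.1 31 186 || syl e.2.1 41 41 ||
    (List.range (e.2.2 + 1)).all fun k => Nat.blt 0 (e.2.2 % k) || Nat.beq k 1 || pass (k * e.2.1) k ||
      syl (k * e.2.1) 41 41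

theorem chkA_all : (LM.all fun e => Nat.blt 0 e.2.2 && chkA e) = true := by decide +kernel

theorem fi24_entry : ∀ e ∈ LM, e.1 = .fi24 → e.2.2 = 2 := by decide +kernel

theorem almost (B : H940.Eng.Base) (h1 : NoTE6) (h2 : NoFi24) {A B' S : Subgroup MG} (h : IsMaxPair A B') (hS : S ≤ B')
    (hAS : A ≤ normalizer (S : Set MG)) (hs : IsSimpleGroup S) (hna : ¬ ∀ a b : S, a * b = b * a)
    (hc : ∀ a ∈ A, (∀ s ∈ S, a * s = s * a) → a = 1) : False := by
  have := BpSpor.MBigModel.finite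
  have hK := allKnown B
  have hSA : S ≤ A := hS.trans h.pair.le
  obtain ⟨e, he, hr, ho, ha⟩ := exists_name B hna (card_dvd_NM S)
  have hA : Nat.card A ∣ Nat.card (MulAut S) := by
    refine card_dvd_of_injective (S.normalizerMonoidHom.comp (inclusion hAS)) ((injective_iff_map_eq_one _).2 ?_)
    intro a ha
    refine Subtype.ext (hc a a.2 fun s hs => ?_)
    have h3 : (a : MG) * s * (a : MG)⁻¹ = s := congrArg (fun f : MulAut S => ((f ⟨s, hs⟩ : S) : MG)) ha
    exact mul_inv_eq_iff_eq_mul.1 h3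
  have hk := NegS.card_mul_relIndex hSA
  have hpos : 0 < Nat.card S := Nat.card_pos
  have hdk : S.relIndex A ∣ e.2.2 := by
    have h3 := hA.trans ha
    rw [← hk, ← ho, mul_comm] at h3
    exact Nat.dvd_of_mul_dvd_mul_right hpos h3
  have hBk : B'.relIndex A ∣ S.relIndex A := relIndex_dvd_of_le_left A hS
  have hk1 : S.relIndex A ≠ 1 := fun e => h.pair.relIndex_ne_one (Nat.dvd_one.1 (e ▸ hBk))
  have h3 := List.all_eq_true.1 chkA_all e he
  simp only [chkA, Bool.and_eq_true, Bool.or_eq_true, Nat.blt_eq, decide_eq_true_eq, List.all_eq_true, List.mem_range,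
    Nat.beq_eq] at h3
  obtain ⟨h0, ((((h3 | h3) | h3) | h3) | h3) | h3⟩ := h3
  · obtain ⟨g, h4, h5, h6⟩ := exists_good B.table (B.known S hs) hna lM_valid (card_dvd_NM S)
    have h7 : ∀ e ∈ LM, exO e.1 = true → e.2.1 = ordN e.1 := by decide +kernel
    exact false_of_exO hK S.subtype S.subtype_injective h3 hr (ho.trans (h7 e he h3))
  · exact h1 S (h3 ▸ hr)
  · rw [fi24_entry e he h3] at hdk
    have h4 : S.relIndex A = 2 := ((Nat.dvd_prime Nat.prime_two).1 hdk).resolve_left hk1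
    have h5 : B'.relIndex A = 2 := ((Nat.dvd_prime Nat.prime_two).1 (h4 ▸ hBk)).resolve_left h.pair.relIndex_ne_one
    have h6 : S = B' := by
      refine eq_of_le_of_card_ge hS (le_of_eq ?_)
      have h7 := NegS.card_mul_relIndex h.pair.le
      rw [h5] at h7
      rw [h4] at hk
      omega
    subst h6
    have h8 : OrdDiv.Real .fi24 S := h3 ▸ hr
    exact h2 A S h.pair h4 h8 hc
  · exact false_of_syl hK S.subtype S.subtype_injective (by simp) (ho ▸ h3)
  · exact false_of_syl hK S.subtype S.subtype_injective (by simp) (ho ▸ h3)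
  · have hcard : Nat.card A = S.relIndex A * e.2.1 := by rw [← hk, ho, mul_comm]
    rcases h3 _ (Nat.lt_succ_of_le (Nat.le_of_dvd h0 hdk)) with ((h4 | h4) | h4) | h4
    · exact h4.ne' (Nat.mod_eq_zero_of_dvd hdk)
    · exact hk1 h4
    · exact false_of_pass hK h hcard.dvd (hcard ▸ Nat.card_pos) hBk h4
    · exact false_of_syl hK A.subtype A.subtype_injective (by simp) (hcard ▸ h4)

theorem exists_min {G : Type*} [Group G] [Finite G] {K : Subgroup G} (hK : K.Normal) (h0 : K ≠ ⊥) :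
    ∃ N ≤ K, N.Normal ∧ N ≠ ⊥ ∧ ∀ M : Subgroup G, M.Normal → M ≤ N → M = ⊥ ∨ M = N := by
  obtain ⟨N, ⟨h1, h2, h3⟩, hmin⟩ := exists_minimal_of_wellFoundedLT
    (fun N : Subgroup G => N ≤ K ∧ N.Normal ∧ N ≠ ⊥) ⟨K, le_rfl, hK, h0⟩
  refine ⟨N, h1, h2, h3, fun M hM hle => ?_⟩
  by_cases h4 : M = ⊥
  · exact Or.inl h4
  · exact Or.inr (le_antisymm hle (hmin ⟨hle.trans h1, hM, h4⟩ hle))

/-- **Box `NL`** from the two special cases. -/
theorem boxNL_of (B : H940.Eng.Base) (h1 : NoTE6) (h2 : NoFi24) : BoxNL := by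
  have := BpSpor.MBigModel.finite
  have := BpSpor.MBigModel.simple
  have hK := allKnown B
  intro A B₀ h₀
  obtain ⟨B', -, h⟩ := h₀.exists_max
  by_contra hcon
  have hinj := A.subtype_injective
  have hp : ∀ N : Subgroup A, N.Normal → N ≠ ⊥ → ∀ p : ℕ, p.Prime → ¬ IsPGroup p N := by
    intro N hN h0 p hp hpN
    refine hcon ⟨p, N.map A.subtype, hp, fun e => h0 ((map_eq_bot_iff_of_injective _ hinj).1 e), hpN.map _, ?_⟩
    rintro a ha _ ⟨v, hv, rfl⟩
    exact ⟨_, hN.conj_mem v hv ⟨a, ha⟩, rfl⟩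
  have fin : ∀ {T T' : Subgroup A}, IsSimpleGroup T → (¬ ∀ a b : T, a * b = b * a) →
      Nat.card T ^ (normalizer (T : Set A)).index ∣ Nat.card A → (∀ x ∈ T, ∀ y ∈ T', Commute x y) →
      Nat.card T ≤ Nat.card T' → 2 ∣ Nat.card T' → False := by
    intro T T' k1 k2 k3 k4 k5 k6
    obtain ⟨n, k7, k8, k9⟩ := comp_pass B A.subtype hinj k1 k2 k3 k4 k5 k6
    exact false_of_pass hK h k7 k8 (dvd_zero _) k9
  have ev : ∀ {T : Subgroup A}, IsSimpleGroup T → (¬ ∀ a b : T, a * b = b * a) → 2 ∣ Nat.card T :=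
    fun {T} _ k2 => two_dvd_card B k2 (T.card_subgroup_dvd_card.trans (card_dvd_NM A))
  have one : ∀ {T : Subgroup A}, T.Normal → Nat.card T ^ (normalizer (T : Set A)).index ∣ Nat.card A := by
    intro T _
    rw [normalizer_eq_top, index_top, pow_one]
    exact T.card_subgroup_dvd_card
  have hB0 : B'.subgroupOf A ≠ ⊥ := fun e => NegS.B_ne_bot h.pair (by
    rw [← map_subgroupOf_eq_of_le h.pair.le, e, Subgroup.map_bot])
  obtain ⟨N, hNB, hN, hN0, hmin⟩ := exists_min h.pair.2.2.1 hB0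
  obtain ⟨S, -, hs, hna, hk, rfl | ⟨S', -, k1, k2⟩⟩ := exists_comp N hN0 hmin (hp N hN hN0)
  swap
  · exact fin hs hna hk k2 k1.ge (k1 ▸ ev hs hna)
  by_cases hC : centralizer (S : Set A) = ⊥
  · let e : S ≃* S.map A.subtype := S.equivMapOfInjective _ hinj
    refine almost B h1 h2 h (S := S.map A.subtype) ?_ ?_ (e.symm.isSimpleGroup_congr.2 hs) (fun k => hna fun a b => ?_) ?_
    · rintro _ ⟨x, hx, rfl⟩
      exact hNB hx
    · rw [le_normalizer_iff]
      rintro a ha _ ⟨x, hx, rfl⟩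
      exact ⟨_, hN.conj_mem x hx ⟨a, ha⟩, rfl⟩
    · apply e.injective
      rw [map_mul, map_mul]
      exact k _ _
    · intro a ha k
      have : (⟨a, ha⟩ : A) ∈ centralizer (S : Set A) := fun s hs => Subtype.ext (k s ⟨s, hs, rfl⟩).symm
      rw [hC, mem_bot] at this
      exact congrArg Subtype.val this
  · obtain ⟨N', hNC, hN', hN0', hmin'⟩ := exists_min (K := centralizer (S : Set A)) inferInstance hC
    obtain ⟨S', -, hs', hna', hk', rfl | ⟨S'', -, k1, k2⟩⟩ := exists_comp N' hN0' hmin' (hp N' hN' hN0')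
    swap
    · exact fin hs' hna' hk' k2 k1.ge (k1 ▸ ev hs' hna')
    have hc : ∀ x ∈ S, ∀ y ∈ S', Commute x y := fun x hx y hy => hNC hy x hx
    rcases le_total (Nat.card S) (Nat.card S') with k | k
    · exact fin hs hna (one hN) hc k (ev hs' hna')
    · exact fin hs' hna' (one hN') (fun x hx y hy => (hc y hy x hx).symm) k (ev hs hna)

end Cfsg.Agent.SP.Mon.NL
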